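import Groth.Agent.CGrpEx.HomExact
import Groth.Agent.EpsCmp.Hyper
import Mathlib.CategoryTheory.Abelian.Injective.Basic

/-!
# Vanishing of first Ext sheaves from local surjectivity
-/

set_option autoImplicit false

universe u

open CategoryTheory CategoryTheory.Limits Opposite

namespace Groth.Agent.GaLoc87

theorem isZero_rightDerived_one {B : Type*} [Category B] [CategoryTheory.Abelian B] [HasInjectiveResolutions B]
    {G E : B ⥤ B} [G.Additive] [PreservesFiniteLimits G] (e : E = G.rightDerived 1) {T : ShortComplex B}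
    (hT : T.ShortExact) [Injective T.X₂] (h : Epi (G.map T.g)) : IsZero (E.obj T.X₁) := by
  subst e
  let L := RDerLES.derivedLES G
  have h0 : Epi ((G.rightDerived 0).map T.g) :=
    ((MorphismProperty.epimorphisms B).arrow_mk_iso_iff
      (Arrow.isoMk (G.rightDerivedZeroIsoSelf.app T.X₂) (G.rightDerivedZeroIsoSelf.app T.X₃)
        (G.rightDerivedZeroIsoSelf.hom.naturality T.g).symm :
        Arrow.mk ((G.rightDerived 0).map T.g) ≅ Arrow.mk (G.map T.g))).2 h
  have hδ : L.δ T hT 0 1 rfl = 0 := (cancel_epi ((G.rightDerived 0).map T.g)).1 ((L.comp_δ T hT 0 1 rfl).trans comp_zero.symm)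
  have hm : Mono ((G.rightDerived 1).map T.f) := (L.exact₁ T hT 0 1 rfl).mono_g hδ
  exact IsZero.of_mono ((G.rightDerived 1).map T.f) (G.isZero_rightDerived_obj_injective_succ 0 T.X₂)

variable {C : Type (u + 1)} [Category.{u} C] (J : GrothendieckTopology C)

/-- The first Ext sheaf vanishes if morphisms to the quotient of an injective lift locally. -/
theorem isZero_extSh_one [HasInjectiveResolutions (Sheaf J AddCommGrpCat.{u + 1})]
    (A : Sheaf J AddCommGrpCat.{u + 1}) {S : ShortComplex (Sheaf J AddCommGrpCat.{u + 1})} (hS : S.ShortExact)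
    [Injective S.X₂]
    (h : ∀ (T : C) (φ : A.over T ⟶ S.X₃.over T), ∃ R ∈ J T, ∀ ⦃W : C⦄ (g : W ⟶ T), R g →
      ∃ ψ : A.over W ⟶ S.X₂.over W, ψ ≫ (J.overPullback AddCommGrpCat.{u + 1} W).map S.g =
        (HomSh.homSh J A S.X₃).obj.map g.op φ) :
    IsZero ((HomSh.extSh J A 1).obj S.X₁) := by
  have he : Sheaf.IsLocallySurjective ((HomSh.homShFunctor J A).map S.g) := ⟨fun {T} φ => by
    obtain ⟨R, hR, hψ⟩ := h T φ
    refine J.superset_covering ?_ hR
    intro W g hg
    obtain ⟨ψ, hψ'⟩ := hψ g hg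
    exact ⟨ψ, (CGrpEx.HomExact.app_id_left J S.g A W ψ).trans hψ'⟩⟩
  exact isZero_rightDerived_one (HomSh.extSh_def J A 1) hS ((Sheaf.isLocallySurjective_iff_epi' _ _).1 he)

end Groth.Agent.GaLoc87
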