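import Groth.Agent.GaLoc87.Data
import Groth.Agent.GaExt87.Univ

/-!
# Coordinates of the additive group relative to an affine chart of the base
-/

set_option autoImplicit false
set_option linter.style.haveILetI false
set_option linter.unusedSectionVars false

universe u

open CategoryTheory CategoryTheory.Limits AlgebraicGeometry Opposite MonObj GrpObj MonoidalCategory CartesianMonoidalCategory
open Groth.Agent.SGA1Torsor Groth.Agent.GaExt87 Groth.Agent.GaFrob87

noncomputable section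

namespace Groth.Agent.GaLoc87

variable {S : Scheme.{u}} {A : Type u} [CommRing A] {j : Spec (CommRingCat.of A) ⟶ S} {Z : Over S}

/-- The structure map on global functions. -/
def strR (h : Z ⟶ Over.mk j) : A →+* Γ(Z.left, ⊤) :=
  ((Scheme.ΓSpecIso (CommRingCat.of A)).inv ≫ h.left.appTop).hom

theorem strR_comp {Z' : Over S} (k : Z' ⟶ Z) (h : Z ⟶ Over.mk j) (a : A) :
    strR (k ≫ h) a = k.left.appTop (strR h a) := rfl

variable {D : Type u} [CommRing D] [Algebra A D]

/-- The point of the spectrum of an algebra given by a homomorphism. -/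
def toQR (h : Z ⟶ Over.mk j) (φ : D →+* Γ(Z.left, ⊤)) (hφ : φ.comp (algebraMap A D) = strR h) : Z ⟶ QA j D :=
  Over.homMk (Z.left.toSpecΓ ≫ Spec.map (CommRingCat.ofHom φ)) (by
    show (Z.left.toSpecΓ ≫ Spec.map _) ≫ Spec.map _ ≫ j = Z.hom
    have hh : h.left ≫ j = Z.hom := Over.w h
    rw [← hh]
    simp only [← Category.assoc]
    congr 1
    rw [Category.assoc, ← Spec.map_comp, ← CommRingCat.ofHom_comp, hφ]
    show Z.left.toSpecΓ ≫ Spec.map ((Scheme.ΓSpecIso (CommRingCat.of A)).inv ≫ h.left.appTop) = h.left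
    rw [Spec.map_comp, ← Scheme.toSpecΓ_naturality_assoc]
    simp)

theorem app_toQR (h : Z ⟶ Over.mk j) (φ : D →+* Γ(Z.left, ⊤)) (hφ : φ.comp (algebraMap A D) = strR h) (d : D) :
    (toQR h φ hφ).left.appTop ((fn j D).symm d) = φ d := by
  have : (Scheme.ΓSpecIso (CommRingCat.of D)).inv ≫ (Z.left.toSpecΓ ≫ Spec.map (CommRingCat.ofHom φ)).appTop =
      CommRingCat.ofHom φ := by
    simp only [Scheme.Hom.comp_appTop, ← Scheme.ΓSpecIso_inv_naturality_assoc, Scheme.toSpecΓ_appTop]
    simp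
  exact congr($this d)

theorem hom_extR {h h' : Z ⟶ QA j D}
    (e : ∀ d : D, h.left.appTop ((fn j D).symm d) = h'.left.appTop ((fn j D).symm d)) : h = h' := by
  refine Over.OverMorphism.ext (ext_of_isAffine (Y := Spec (CommRingCat.of D)) ?_)
  rw [← cancel_epi (Scheme.ΓSpecIso (CommRingCat.of D)).inv]
  exact CommRingCat.hom_ext (RingHom.ext e)

theorem app_st (h : Z ⟶ QA j D) (a : A) :
    h.left.appTop ((fn j D).symm (algebraMap A D a)) = strR (h ≫ st j D) a := by
  show (CommRingCat.ofHom (algebraMap A D) ≫ (Scheme.ΓSpecIso (CommRingCat.of D)).inv ≫ h.left.appTop) a =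
    ((Scheme.ΓSpecIso (CommRingCat.of A)).inv ≫ (h.left ≫ Spec.map (CommRingCat.ofHom (algebraMap A D))).appTop) a
  rw [Scheme.ΓSpecIso_inv_naturality_assoc, ← Scheme.Hom.comp_appTop]

theorem toQR_st (h : Z ⟶ Over.mk j) (φ : D →+* Γ(Z.left, ⊤)) (hφ : φ.comp (algebraMap A D) = strR h) :
    toQR h φ hφ ≫ st j D = h := by
  refine Over.OverMorphism.ext (ext_of_isAffine (Y := Spec (CommRingCat.of A)) ?_)
  rw [← cancel_epi (Scheme.ΓSpecIso (CommRingCat.of A)).inv]
  refine CommRingCat.hom_ext (RingHom.ext fun a => ?_)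
  exact ((app_st (toQR h φ hφ) a).symm.trans (app_toQR h φ hφ _)).trans (RingHom.congr_fun hφ a)

theorem gaFn_comp_gaQR (h : Z ⟶ QA j D) (d : D) :
    Red.gaFn (h ≫ gaQ j d) = h.left.appTop ((fn j D).symm d) := by
  rw [RedPts.ga_comp, gaQ, RedPts.gaFn_gaPt]

/-- The coordinate map of a point. -/
def coordR (h : Z ⟶ Over.mk j) (q : Z ⟶ Red.Ga S) : Z ⟶ QA j (Polynomial A) :=
  toQR h (Polynomial.eval₂RingHom (strR h) (Red.gaFn q)) (RingHom.ext fun a => by simp)

theorem coordR_X (h : Z ⟶ Over.mk j) (q : Z ⟶ Red.Ga S) : coordR h q ≫ gaQ j Polynomial.X = q := by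
  refine RedPts.ga_injective ?_
  rw [gaFn_comp_gaQR, coordR, app_toQR]
  simp

theorem eq_coordR {c : Z ⟶ QA j (Polynomial A)} {h : Z ⟶ Over.mk j} {q : Z ⟶ Red.Ga S}
    (h₁ : c ≫ st j (Polynomial A) = h) (h₂ : c ≫ gaQ j Polynomial.X = q) : c = coordR h q := by
  refine hom_extR fun d => ?_
  rw [coordR, app_toQR]
  show (c.left.appTop.hom.comp (fn j (Polynomial A)).symm.toRingHom) d = _
  refine RingHom.congr_fun (Polynomial.ringHom_ext (fun a => ?_) ?_) d
  · rw [Polynomial.coe_eval₂RingHom, Polynomial.eval₂_C, ← h₁]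
    exact app_st c a
  · rw [Polynomial.coe_eval₂RingHom, Polynomial.eval₂_X, ← h₂, gaFn_comp_gaQR]
    rfl

theorem comp_coordR {Z' : Over S} (k : Z' ⟶ Z) (h : Z ⟶ Over.mk j) (q : Z ⟶ Red.Ga S) :
    k ≫ coordR h q = coordR (k ≫ h) (k ≫ q) :=
  eq_coordR (by rw [Category.assoc, coordR, toQR_st]) (by rw [Category.assoc, coordR_X])

theorem qmap_aeval (c : D) : qmap j (Polynomial.aeval c) = coordR (st j D) (gaQ j c) :=
  eq_coordR (qmap_st j _) ((comp_gaQ j _ _).trans (congrArg (gaQ j) (Polynomial.aeval_X c)))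

variable (j) in
/-- The base change of an affine chart. -/
abbrev bcj (A' : Type u) [CommRing A'] [Algebra A A'] : Spec (CommRingCat.of A') ⟶ S :=
  Spec.map (CommRingCat.ofHom (algebraMap A A')) ≫ j

variable (j) in
/-- The affine line over the base change. -/
def bcLine (A' : Type u) [CommRing A'] [Algebra A A'] : QA (bcj j A') (Polynomial A') ⟶ QA j (Polynomial A) :=
  Over.homMk (Spec.map (CommRingCat.ofHom (Polynomial.mapRingHom (algebraMap A A')))) (by
    show Spec.map _ ≫ Spec.map _ ≫ j = Spec.map _ ≫ Spec.map _ ≫ j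
    rw [← Spec.map_comp_assoc, ← Spec.map_comp_assoc, ← CommRingCat.ofHom_comp, ← CommRingCat.ofHom_comp]
    refine congrArg (fun r => Spec.map (CommRingCat.ofHom r) ≫ j) (RingHom.ext fun x => ?_)
    exact Polynomial.map_C _)

theorem coordR_bc (A' : Type u) [CommRing A'] [Algebra A A'] (h : Z ⟶ Over.mk (bcj j A')) (q : Z ⟶ Red.Ga S) :
    coordR h q ≫ bcLine j A' = coordR (h ≫ (st j A' : Over.mk (bcj j A') ⟶ Over.mk j)) q := by
  refine eq_coordR ?_ ?_
  · have e : bcLine j A' ≫ st j (Polynomial A) =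
        st (bcj j A') (Polynomial A') ≫ (st j A' : Over.mk (bcj j A') ⟶ Over.mk j) := Over.OverMorphism.ext (by
      show Spec.map _ ≫ Spec.map _ = Spec.map _ ≫ Spec.map _
      rw [← Spec.map_comp, ← Spec.map_comp, ← CommRingCat.ofHom_comp, ← CommRingCat.ofHom_comp]
      exact congrArg (fun r => Spec.map (CommRingCat.ofHom r)) (RingHom.ext fun x => Polynomial.map_C _))
    rw [Category.assoc, e, ← Category.assoc, coordR, toQR_st]
  · refine RedPts.ga_injective ?_
    rw [Category.assoc, RedPts.ga_comp, RedPts.ga_comp, gaQ, RedPts.gaFn_gaPt]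
    show (coordR h q).left.appTop ((Spec.map (CommRingCat.ofHom (Polynomial.mapRingHom (algebraMap A A')))).appTop
      ((Scheme.ΓSpecIso (CommRingCat.of (Polynomial A))).inv Polynomial.X)) = _
    rw [← ConcreteCategory.comp_apply (Scheme.ΓSpecIso (CommRingCat.of (Polynomial A))).inv,
      ← Scheme.ΓSpecIso_inv_naturality]
    show (coordR h q).left.appTop ((fn (bcj j A') (Polynomial A')).symm (Polynomial.X.map (algebraMap A A'))) = _
    rw [coordR, app_toQR, Polynomial.map_X]
    simp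

end Groth.Agent.GaLoc87
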