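import Groth.Agent.GaFrob87.Deriv

/-!
# `p`-torsion unit cocycles on the affine line: logarithmic data and roots
-/

set_option autoImplicit false
set_option linter.unusedSectionVars false

universe u

open Polynomial

namespace Groth.Agent.GaLoc87

open Groth.Agent.GaFrob87

variable {R : Type u} [CommRing R] (p : ℕ) [Fact p.Prime] [CharP R p] {ι : Type} [Fintype ι] (f : ι → R[X])

/-- Representatives of the units with nilpotent derivatives. -/
theorem exists_log_data (hf : Ideal.span (Set.range f) = ⊤)
    (a : ∀ k i, (Localization.Away (f k * f i))ˣ) (u : ∀ i, (Localization.Away (f i))ˣ)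
    (hu : ∀ k i, (a k i : Localization.Away (f k * f i)) ^ p * toR (f k) (f i) (u i : Localization.Away (f i)) =
      toL (f k) (f i) (u k : Localization.Away (f k))) :
    ∃ (n : ι → ℕ) (H : ι → R[X]), ∀ k, IsNilpotent (derivative (H k)) ∧
      algebraMap _ (Localization.Away (f k)) (H k) =
        (u k : Localization.Away (f k)) * algebraMap _ _ (f k) ^ (p * n k) := by
  classical
  have hp1 : 1 ≤ p := (Fact.out (p := p.Prime)).one_lt.le
  have hH : ∀ i, ∃ (n : ℕ) (H : R[X]),
      algebraMap _ (Localization.Away (f i)) H = (u i : Localization.Away (f i)) * algebraMap _ _ (f i) ^ (p * n) := by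
    intro i
    obtain ⟨n, b, hb⟩ := IsLocalization.Away.surj (f i) (u i : Localization.Away (f i))
    refine ⟨n, b * f i ^ ((p - 1) * n), ?_⟩
    rw [map_mul, ← hb, map_pow, mul_assoc, ← pow_add]
    congr 2
    obtain ⟨q, rfl⟩ := Nat.exists_eq_add_of_le hp1
    simp only [Nat.add_sub_cancel_left]
    ring
  choose n H hH using hH
  -- `H_k' H_i = H_i' H_k` on overlaps
  have hcross : ∀ k i, ∃ N : ℕ, (f k * f i) ^ N * (derivative (H k) * H i - derivative (H i) * H k) = 0 := by
    intro k i
    obtain ⟨m, b, hb⟩ := IsLocalization.Away.surj (f k * f i) (a k i : Localization.Away (f k * f i))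
    have e : algebraMap _ (Localization.Away (f k * f i)) (H k * (f i ^ n i * (f k * f i) ^ m) ^ p) =
        algebraMap _ _ (H i * (b * f k ^ n k) ^ p) := by
      have hk := congrArg (toL (f k) (f i)) (hH k)
      have hi := congrArg (toR (f k) (f i)) (hH i)
      rw [map_mul, map_pow, AlgHom.commutes, AlgHom.commutes, ← hu] at hk
      rw [map_mul, map_pow, AlgHom.commutes, AlgHom.commutes] at hi
      simp only [map_mul, map_pow, hk, hi, ← hb]
      ring
    obtain ⟨⟨_, M, rfl⟩, hM⟩ := (IsLocalization.eq_iff_exists (Submonoid.powers (f k * f i)) _).1 e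
    let P := (f i ^ n i * (f k * f i) ^ m) * (f k * f i) ^ M
    let Q := (b * f k ^ n k) * (f k * f i) ^ M
    have hPQ : H k * P ^ p = H i * Q ^ p := by
      simp only [P, Q]
      simp only at hM
      obtain ⟨q, hq⟩ := Nat.exists_eq_add_of_le hp1
      have e2 : ((f k * f i) ^ M) ^ p = (f k * f i) ^ M * ((f k * f i) ^ M) ^ q := by rw [hq, pow_add, pow_one]
      linear_combination ((f k * f i) ^ M) ^ q * hM +
        (H k * (f i ^ n i * (f k * f i) ^ m) ^ p - H i * (b * f k ^ n k) ^ p) * e2
    have hD := congrArg derivative hPQ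
    rw [derivative_mul_pow_prime, derivative_mul_pow_prime] at hD
    have h0 : P ^ p * (derivative (H k) * H i - derivative (H i) * H k) = 0 := by
      linear_combination H i * hD - derivative (H i) * hPQ
    have hP : IsUnit (algebraMap _ (Localization.Away (f k * f i)) (P ^ p)) := by
      have e1 := isUnit_fst (f k) (f i)
      have e2 := isUnit_snd (f k) (f i)
      simp only [P, map_pow, map_mul]
      exact (((e2.pow _).mul ((e1.mul e2).pow _)).mul ((e1.mul e2).pow _)).pow _
    have h1 := congrArg (algebraMap _ (Localization.Away (f k * f i))) h0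
    rw [map_mul, map_zero] at h1
    obtain ⟨⟨_, N, rfl⟩, hN⟩ := (IsLocalization.map_eq_zero_iff (Submonoid.powers (f k * f i))
      (Localization.Away (f k * f i)) _).1 (hP.mul_right_eq_zero.1 h1)
    exact ⟨N, hN⟩
  choose N₁ hN₁ using hcross
  have hinv : ∀ i, ∃ (r : ℕ) (K : R[X]), H i * K = f i ^ r := by
    intro i
    have h1 : IsUnit (algebraMap _ (Localization.Away (f i)) (H i)) := by
      rw [hH]; exact (u i).isUnit.mul ((isUnit_algebraMap_away _).pow _)
    obtain ⟨v, hv⟩ := h1.exists_right_inv
    obtain ⟨r, b, hb⟩ := IsLocalization.Away.surj (f i) v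
    obtain ⟨⟨_, s, rfl⟩, hs⟩ := (IsLocalization.eq_iff_exists (Submonoid.powers (f i))
      (Localization.Away (f i)) (x := H i * b) (y := f i ^ r)).1 (by
        rw [map_mul, map_pow, ← hb, ← mul_assoc, hv, one_mul])
    refine ⟨s + r, f i ^ s * b, ?_⟩
    simp only at hs
    rw [pow_add]
    linear_combination hs
  choose r K hK using hinv
  let N := Finset.univ.sup fun z : ι × ι => N₁ z.1 z.2
  have hN : ∀ k i, (f k * f i) ^ N * (derivative (H k) * H i - derivative (H i) * H k) = 0 := fun k i => by
    obtain ⟨d, hd⟩ := Nat.exists_eq_add_of_le' (show N₁ k i ≤ N from Finset.le_sup (f := fun z : ι × ι => N₁ z.1 z.2) (Finset.mem_univ (k, i)))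
    rw [hd, pow_add, mul_assoc, hN₁, mul_zero]
  obtain ⟨c, hc⟩ : ∃ c : ι → R[X], ∑ i, c i * (f i ^ N * f i ^ r i) = 1 := by
    obtain ⟨c, hc⟩ := span_pow_range f hf (fun i => N + r i)
    rw [Finsupp.sum_fintype _ _ (by simp)] at hc
    exact ⟨c, by simpa only [← pow_add] using hc⟩
  let g := ∑ i, c i * f i ^ N * (derivative (H i) * K i)
  have hg : ∀ k, f k ^ N * (derivative (H k) - g * H k) = 0 := fun k => by
    calc f k ^ N * (derivative (H k) - g * H k)
        = f k ^ N * (derivative (H k) * ∑ i, c i * (f i ^ N * f i ^ r i) - g * H k) := by rw [hc, mul_one]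
      _ = ∑ i, c i * K i * ((f k * f i) ^ N * (derivative (H k) * H i - derivative (H i) * H k)) := by
          simp only [g, Finset.mul_sum, Finset.sum_mul, ← Finset.sum_sub_distrib]
          refine Finset.sum_congr rfl fun i _ => ?_
          rw [← hK]
          ring
      _ = 0 := by simp [hN]
  -- exact equations
  let H' : ι → R[X] := fun k => H k * (f k ^ N) ^ p
  have hH' : ∀ k, derivative (H' k) = g * H' k := fun k => by
    obtain ⟨q, hq⟩ := Nat.exists_eq_add_of_le hp1
    have e2 : (f k ^ N) ^ p = f k ^ N * (f k ^ N) ^ q := by rw [hq, pow_add, pow_one]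
    simp only [H', derivative_mul_pow_prime]
    linear_combination (f k ^ N) ^ q * hg k + (derivative (H k) - g * H k) * e2
  have hgn : IsNilpotent g := by
    refine isNilpotent_logD p ?_
    have h1 : ∀ k, ∃ s, f k ^ s * logD g p = 0 := fun k => by
      refine ⟨r k + N * p, ?_⟩
      have h2 := iterate_derivative_eq (hH' k) p
      rw [iterate_derivative_charP] at h2
      simp only [H'] at h2
      rw [pow_add, pow_mul, ← hK]
      linear_combination -(K k) * h2
    choose s hs using h1
    obtain ⟨c', hc'⟩ : ∃ c' : ι → R[X], ∑ i, c' i * f i ^ s i = 1 := by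
      obtain ⟨c, hc⟩ := span_pow_range f hf s
      rw [Finsupp.sum_fintype _ _ (by simp)] at hc
      exact ⟨c, hc⟩
    rw [← one_mul (logD g p), ← hc', Finset.sum_mul]
    simp [mul_assoc, hs]
  refine ⟨fun k => n k + N, H', fun k => ⟨?_, ?_⟩⟩
  · rw [hH']
    exact Commute.isNilpotent_mul_right (Commute.all _ _) hgn
  · simp only [H', map_mul, map_pow, hH]
    ring

/-- Coboundaries modulo nilpotents from `p`-th roots. -/
theorem exists_approx_of_root
    (a : ∀ k i, (Localization.Away (f k * f i))ˣ) (u : ∀ i, (Localization.Away (f i))ˣ)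
    (hu : ∀ k i, (a k i : Localization.Away (f k * f i)) ^ p * toR (f k) (f i) (u i : Localization.Away (f i)) =
      toL (f k) (f i) (u k : Localization.Away (f k)))
    (n : ι → ℕ) (H G : ι → R[X]) (hH : ∀ k, algebraMap _ (Localization.Away (f k)) (H k) =
        (u k : Localization.Away (f k)) * algebraMap _ _ (f k) ^ (p * n k))
    (hG : ∀ k, IsNilpotent (H k - G k ^ p)) :
    ∃ w : ∀ i, (Localization.Away (f i))ˣ, ∀ k i,
      IsNilpotent ((a k i : Localization.Away (f k * f i)) * toR (f k) (f i) (w i : Localization.Away (f i)) -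
        toL (f k) (f i) (w k : Localization.Away (f k))) := by
  have hcast : ∀ (C : Type u) [CommRing C] [Algebra R[X] C], (p : C) = 0 := fun C _ _ => by
    rw [← map_natCast (algebraMap R[X] C) p, CharP.cast_eq_zero, map_zero]
  have hW : ∀ k, ∃ w : (Localization.Away (f k))ˣ,
      IsNilpotent ((u k : Localization.Away (f k)) - (w : Localization.Away (f k)) ^ p) := fun k => by
    let φ := algebraMap R[X] (Localization.Away (f k))
    obtain ⟨q, hq⟩ := ((isUnit_algebraMap_away (f k)).pow (n k)).exists_right_inv
    have hnil : IsNilpotent ((u k : Localization.Away (f k)) - (φ (G k) * q) ^ p) := by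
      have e : (u k : Localization.Away (f k)) - (φ (G k) * q) ^ p = φ (H k - G k ^ p) * q ^ p := by
        have hqp : (φ (f k) ^ (n k)) ^ p * q ^ p = 1 := by rw [← mul_pow, hq, one_pow]
        simp only [φ, map_sub, map_mul, map_pow, hH]
        rw [Nat.mul_comm p, pow_mul]
        linear_combination -(u k : Localization.Away (f k)) * hqp
      rw [e]
      exact Commute.isNilpotent_mul_right (Commute.all _ _) ((hG k).map φ)
    have hu' : IsUnit ((φ (G k) * q) ^ p) := by
      have := hnil.neg.isUnit_add_left_of_commute (u k).isUnit (Commute.all _ _)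
      rwa [neg_sub, add_sub_cancel] at this
    exact ⟨((isUnit_pow_iff (Fact.out (p := p.Prime)).ne_zero).1 hu').unit, hnil⟩
  choose w hw using hW
  refine ⟨w, fun k i => IsNilpotent.of_pow (m := p) ?_⟩
  rw [sub_pow_prime p (hcast _), mul_pow, ← map_pow, ← map_pow]
  have e : (a k i : Localization.Away (f k * f i)) ^ p * toR (f k) (f i) ((w i : Localization.Away (f i)) ^ p) -
      toL (f k) (f i) ((w k : Localization.Away (f k)) ^ p) =
      toL (f k) (f i) ((u k : Localization.Away (f k)) - (w k : Localization.Away (f k)) ^ p) -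
      (a k i : Localization.Away (f k * f i)) ^ p *
        toR (f k) (f i) ((u i : Localization.Away (f i)) - (w i : Localization.Away (f i)) ^ p) := by
    rw [map_sub (toL (f k) (f i)), map_sub (toR (f k) (f i))]
    linear_combination hu k i
  rw [e]
  exact (Commute.all _ _).isNilpotent_sub ((hw k).map _) (Commute.isNilpotent_mul_left (Commute.all _ _) ((hw i).map _))

end Groth.Agent.GaLoc87
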