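import Groth.Agent.GaExt.Split
import Mathlib.RingTheory.AdjoinRoot
import Mathlib.RingTheory.Flat.FaithfullyFlat.Algebra
import Mathlib.RingTheory.FinitePresentation
import Mathlib.Algebra.Module.FinitePresentation
import Mathlib.Algebra.CharP.Algebra

/-!
# Splitting multiplicative cocycles of `G_a` after adjoining finitely many `p`-th roots
-/

set_option autoImplicit false
set_option linter.unusedSectionVars false
set_option linter.style.haveILetI false

universe u

namespace Groth.Agent.GaLoc87

open Groth.Agent.GaExt Groth.Agent.WittExt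

variable {R : Type u} [CommRing R] (p : ℕ) [hp : Fact p.Prime] [CharP R p]

local notation "P2" => MvPolynomial (Fin 2) R

include hp in
/-- The linear part of one step. -/
theorem exists_decomp (I : Ideal R) (k : ℕ) (hk : 1 ≤ k) (H : P2) (hH : MCoc H)
    (hk1 : H - 1 ∈ (I ^ k).map MvPolynomial.C) :
    ∃ (G : Polynomial R) (M : ℕ) (c : ℕ → R), G ∈ (I ^ k).map Polynomial.C ∧ (∀ s, c s ∈ I ^ k) ∧
      (H - 1) - (delta MvPolynomial.C G (MvPolynomial.X 0) (MvPolynomial.X 1) +
        ∑ s ∈ Finset.range M, MvPolynomial.C (c s) *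
          wfun p (MvPolynomial.X 0 ^ p ^ s) (MvPolynomial.X 1 ^ p ^ s)) ∈ (I ^ (k + 1)).map MvPolynomial.C := by
  set J := I ^ k with hJ
  set J' := I ^ (k + 1) with hJ'
  have hJJ : J * J ≤ J' := by rw [hJ, hJ', ← pow_add]; exact pow_le_of_le (by omega)
  set g := H - 1 with hg
  have hgg : ∀ {τ : Type} (a b : MvPolynomial τ R), a ∈ J.map MvPolynomial.C → b ∈ J.map MvPolynomial.C →
      a * b ∈ J'.map MvPolynomial.C := by
    intro τ a b ha hb
    have h2 := Ideal.mul_mem_mul ha hb
    rw [← Ideal.map_mul] at h2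
    exact Ideal.map_mono hJJ h2
  have hs : MvPolynomial.aeval ![MvPolynomial.X 1, (MvPolynomial.X 0 : P2)] g - g ∈ J'.map MvPolynomial.C := by
    rw [hg, map_sub, map_one, hH.1, sub_self]; exact Ideal.zero_mem _
  have hc : MvPolynomial.aeval ![MvPolynomial.X 0, (MvPolynomial.X 1 : MvPolynomial (Fin 3) R)] g +
        MvPolynomial.aeval ![MvPolynomial.X 0 + MvPolynomial.X 1, (MvPolynomial.X 2 : MvPolynomial (Fin 3) R)] g -
      (MvPolynomial.aeval ![MvPolynomial.X 0, MvPolynomial.X 1 + (MvPolynomial.X 2 : MvPolynomial (Fin 3) R)] g +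
        MvPolynomial.aeval ![MvPolynomial.X 1, (MvPolynomial.X 2 : MvPolynomial (Fin 3) R)] g) ∈
      J'.map MvPolynomial.C := by
    have h2 := hH.2
    rw [show H = 1 + g by rw [hg]; ring] at h2
    simp only [map_add, map_one] at h2
    have hm : ∀ v : Fin 2 → MvPolynomial (Fin 3) R, MvPolynomial.aeval v g ∈ J.map MvPolynomial.C :=
      fun v => map_C_mem J _ hk1
    have := sub_mem (hgg _ _ (hm ![MvPolynomial.X 1, MvPolynomial.X 2])
      (hm ![MvPolynomial.X 0, MvPolynomial.X 1 + MvPolynomial.X 2]))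
      (hgg _ _ (hm ![MvPolynomial.X 0 + MvPolynomial.X 1, MvPolynomial.X 2])
        (hm ![MvPolynomial.X 0, MvPolynomial.X 1]))
    convert this using 1
    linear_combination -h2
  exact exists_decomposition_mod p J J' g hk1 hs hc

include hp in
/-- One step from `p`-th roots. -/
theorem exists_step_of_roots (I : Ideal R) (hI : IsNilpotent I) (k : ℕ) (hk : 1 ≤ k) (H : P2)
    (hk1 : H - 1 ∈ (I ^ k).map MvPolynomial.C) (G : Polynomial R) (M : ℕ) (c : ℕ → R)
    (hG : G ∈ (I ^ k).map Polynomial.C) (hc' : ∀ s, c s ∈ I ^ k)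
    (hdec : (H - 1) - (delta MvPolynomial.C G (MvPolynomial.X 0) (MvPolynomial.X 1) +
        ∑ s ∈ Finset.range M, MvPolynomial.C (c s) *
          wfun p (MvPolynomial.X 0 ^ p ^ s) (MvPolynomial.X 1 ^ p ^ s)) ∈ (I ^ (k + 1)).map MvPolynomial.C)
    (d : ℕ → R) (hd : ∀ s, d s ^ p = -c s) :
    ∃ f : (Polynomial R)ˣ, dlt f * H - 1 ∈ (I ^ (k + 1)).map MvPolynomial.C := by
  set J := I ^ k with hJ
  set J' := I ^ (k + 1) with hJ'
  have hJJ : J * J ≤ J' := by rw [hJ, hJ', ← pow_add]; exact pow_le_of_le (by omega)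
  set g := H - 1 with hg
  have hgg : ∀ {τ : Type} (a b : MvPolynomial τ R), a ∈ J.map MvPolynomial.C → b ∈ J.map MvPolynomial.C →
      a * b ∈ J'.map MvPolynomial.C := by
    intro τ a b ha hb
    have h2 := Ideal.mul_mem_mul ha hb
    rw [← Ideal.map_mul] at h2
    exact Ideal.map_mono hJJ h2
  have hJnil : IsNilpotent (J.map (Polynomial.C : R →+* Polynomial R)) := by
    obtain ⟨n, hn⟩ := hI
    refine ⟨n, ?_⟩
    rw [← Ideal.map_pow, hJ, ← pow_mul]
    have : I ^ (k * n) = 0 := pow_eq_zero_of_le (Nat.le_mul_of_pos_left n hk) hn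
    rw [this, Ideal.zero_eq_bot, Ideal.map_bot, Ideal.zero_eq_bot]
  have hGnil : IsNilpotent G := by
    obtain ⟨n, hn⟩ := hJnil
    refine ⟨n, ?_⟩
    have := Ideal.pow_mem_pow hG n
    rwa [hn, Ideal.zero_eq_bot, Ideal.mem_bot] at this
  let f0 : (Polynomial R)ˣ := (IsNilpotent.isUnit_one_sub hGnil).unit
  have hf0 : (f0 : Polynomial R) = 1 - G := IsUnit.unit_spec _
  have hl0 : Lin J' f0 (-delta (MvPolynomial.C : R →+* P2) G (MvPolynomial.X 0) (MvPolynomial.X 1)) := by
    unfold Lin
    rw [hf0, map_sub, map_sub, map_sub, map_one, map_one, map_one, delta_eq]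
    have := sub_mem (hgg _ _ (aeval_mem_map_C J (MvPolynomial.X 0 : P2) hG) (aeval_mem_map_C J (MvPolynomial.X 1 : P2) hG))
      (hgg _ _ (aeval_mem_map_C J (MvPolynomial.X 0 + MvPolynomial.X 1 : P2) hG)
        (sub_mem (add_mem (aeval_mem_map_C J (MvPolynomial.X 0 : P2) hG) (aeval_mem_map_C J (MvPolynomial.X 1 : P2) hG))
          (aeval_mem_map_C J (MvPolynomial.X 0 + MvPolynomial.X 1 : P2) hG)))
    convert this using 1
    ring
  have hdnil : ∀ s, IsNilpotent (d s) := by
    intro s
    obtain ⟨n, hn⟩ := hI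
    refine ⟨p * n, ?_⟩
    rw [pow_mul, hd]
    have h1 := Ideal.pow_mem_pow ((I ^ k).neg_mem (hc' s)) n
    rw [← pow_mul, pow_eq_zero_of_le (Nat.le_mul_of_pos_left n hk) hn, Ideal.zero_eq_bot, Ideal.mem_bot] at h1
    exact h1
  let φ : ℤ_[p] →+* Polynomial R := Polynomial.C.comp (padicTo p R)
  have hunit : ∀ s, IsUnit (ah p φ (Polynomial.C (d s) * Polynomial.X ^ p ^ s)) := by
    intro s
    set t := Polynomial.C (d s) * Polynomial.X ^ p ^ s with ht
    have htn : IsNilpotent t := (Commute.all _ _).isNilpotent_mul_right ((hdnil s).map Polynomial.C)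
    have h1 : ah p φ t - 1 ∈ Ideal.span {t} := by
      rw [← Ideal.Quotient.mk_eq_mk_iff_sub_mem, map_one, map_ah,
        Ideal.Quotient.eq_zero_iff_mem.mpr (Ideal.mem_span_singleton_self t), ah_zero]
    obtain ⟨w, hw⟩ := Ideal.mem_span_singleton'.mp h1
    rw [show ah p φ t = 1 + w * t by rw [hw]; ring]
    exact ((Commute.all _ _).isNilpotent_mul_left htn).isUnit_one_add
  let fs : ℕ → (Polynomial R)ˣ := fun s => (hunit s).unit
  have hls : ∀ s, Lin J' (fs s)
      (-(MvPolynomial.C (c s) * wfun p (MvPolynomial.X 0 ^ p ^ s) (MvPolynomial.X 1 ^ p ^ s))) := by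
    intro s
    unfold Lin
    let ψ : ℤ_[p] →+* P2 := MvPolynomial.C.comp (padicTo p R)
    have hev : ∀ z : P2, Polynomial.aeval z (fs s : Polynomial R) = ah p ψ (MvPolynomial.C (d s) * z ^ p ^ s) := by
      intro z
      rw [show (fs s : Polynomial R) = ah p φ (Polynomial.C (d s) * Polynomial.X ^ p ^ s) from IsUnit.unit_spec _]
      refine (map_ah p φ (Polynomial.aeval z).toRingHom _).trans ?_
      congr 1
      · ext r; simp [φ, ψ]
      · simp
    rw [show at0 (fs s : Polynomial R) = _ from hev _, show at1 (fs s : Polynomial R) = _ from hev _,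
      show at01 (fs s : Polynomial R) = _ from hev _, add_pow_char_pow]
    obtain ⟨w, hw⟩ := ah_mul p ψ (MvPolynomial.C (d s) : P2) (MvPolynomial.X 0 ^ p ^ s) (MvPolynomial.X 1 ^ p ^ s)
    rw [hw, ← map_pow, hd, map_neg, neg_mul, add_sub_cancel_left]
    refine Ideal.mul_mem_right _ _ ?_
    rw [← map_pow]
    refine Ideal.mem_map_of_mem _ (hJJ ?_)
    rw [mul_comm 2 p, pow_mul, hd, neg_sq, pow_two]
    exact Ideal.mul_mem_mul (hc' s) (hc' s)
  have hwmem : ∀ s, -(MvPolynomial.C (c s) * wfun p (MvPolynomial.X 0 ^ p ^ s) (MvPolynomial.X 1 ^ p ^ s) : P2) ∈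
      J.map MvPolynomial.C := fun s => neg_mem (Ideal.mul_mem_right _ _ (Ideal.mem_map_of_mem _ (hc' s)))
  have hprod : ∀ m, Lin J' (∏ s ∈ Finset.range m, fs s)
      (∑ s ∈ Finset.range m, -(MvPolynomial.C (c s) * wfun p (MvPolynomial.X 0 ^ p ^ s) (MvPolynomial.X 1 ^ p ^ s))) := by
    intro m
    induction m with
    | zero => simp [Lin]
    | succ m ih =>
      rw [Finset.prod_range_succ, Finset.sum_range_succ]
      exact Lin.mul hJJ (Ideal.sum_mem _ fun s _ => hwmem s) (hwmem m) ih (hls m)
  have hd0 : -delta (MvPolynomial.C : R →+* P2) G (MvPolynomial.X 0) (MvPolynomial.X 1) ∈ J.map MvPolynomial.C := by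
    rw [delta_eq]
    exact neg_mem (sub_mem (add_mem (aeval_mem_map_C J _ hG) (aeval_mem_map_C J _ hG)) (aeval_mem_map_C J _ hG))
  have hall := (Lin.mul hJJ hd0 (Ideal.sum_mem _ fun s _ => hwmem s) hl0 (hprod M)).dlt
  refine ⟨f0 * ∏ s ∈ Finset.range M, fs s, ?_⟩
  set F := f0 * ∏ s ∈ Finset.range M, fs s
  set a := -delta (MvPolynomial.C : R →+* P2) G (MvPolynomial.X 0) (MvPolynomial.X 1) +
    ∑ s ∈ Finset.range M, -(MvPolynomial.C (c s) * wfun p (MvPolynomial.X 0 ^ p ^ s) (MvPolynomial.X 1 ^ p ^ s)) with ha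
  have hga : g + a ∈ J'.map MvPolynomial.C := by
    convert hdec using 1
    rw [ha, Finset.sum_neg_distrib]; ring
  have hag : a * g ∈ J'.map MvPolynomial.C :=
    hgg _ _ (add_mem hd0 (Ideal.sum_mem _ fun s _ => hwmem s)) hk1
  have := add_mem (add_mem (Ideal.mul_mem_right H _ hall) hga) hag
  convert this using 1
  rw [hg]
  ring


/-- Finitely many elements have `p`-th roots in a finite free extension. -/
theorem exists_roots (p : ℕ) [Fact p.Prime] : ∀ (s : List R) (R' : Type u) [CommRing R'] [Algebra R R'] [CharP R' p]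
    [Module.Free R R'] [Module.Finite R R'],
    ∃ (R'' : Type u) (_ : CommRing R'') (_ : Algebra R R'') (_ : CharP R'' p) (_ : Module.Free R R'')
      (_ : Module.Finite R R''), ∀ x ∈ s, ∃ y : R'', y ^ p = algebraMap R R'' x
  | [], R', _, _, _, _, _ => ⟨R', inferInstance, inferInstance, inferInstance, inferInstance, inferInstance, by simp⟩
  | x :: s, R', _, _, _, _, _ => by
    obtain ⟨R₁, _, _, _, _, _, h₁⟩ := exists_roots p s R'
    let q : Polynomial R₁ := Polynomial.X ^ p - Polynomial.C (algebraMap R R₁ x)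
    have hq : q.Monic := Polynomial.monic_X_pow_sub_C _ (Fact.out (p := p.Prime)).ne_zero
    have := hq.free_adjoinRoot
    have := hq.finite_adjoinRoot
    have : Nontrivial R₁ := CharP.nontrivial_of_char_ne_one (R := R₁) (Fact.out (p := p.Prime)).ne_one
    have hdeg : q.degree ≠ 0 := by
      rw [Polynomial.degree_X_pow_sub_C (Fact.out (p := p.Prime)).pos]
      exact_mod_cast (Fact.out (p := p.Prime)).ne_zero
    have hinj : Function.Injective (algebraMap R₁ (AdjoinRoot q)) := by
      rw [injective_iff_map_eq_zero]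
      intro a ha
      by_contra hne
      have h2 : q ∣ Polynomial.C a := AdjoinRoot.mk_eq_zero.1 ha
      refine hq.not_dvd_of_degree_lt (fun h => hne (Polynomial.C_eq_zero.1 h)) ?_ h2
      rw [Polynomial.degree_C hne, Polynomial.degree_X_pow_sub_C (Fact.out (p := p.Prime)).pos]
      exact_mod_cast (Fact.out (p := p.Prime)).pos
    have : CharP (AdjoinRoot q) p := charP_of_injective_algebraMap hinj p
    have : Module.Free R (AdjoinRoot q) := Module.Free.trans (R := R) (S := R₁) (M := AdjoinRoot q)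
    have : Module.Finite R (AdjoinRoot q) := Module.Finite.trans R₁ (AdjoinRoot q)
    refine ⟨AdjoinRoot q, inferInstance, inferInstance, inferInstance, inferInstance, inferInstance, ?_⟩
    intro z hz
    rcases List.mem_cons.1 hz with rfl | hz
    · refine ⟨AdjoinRoot.root q, ?_⟩
      have h := AdjoinRoot.eval₂_root q
      simp only [q, Polynomial.eval₂_sub, Polynomial.eval₂_X_pow, Polynomial.eval₂_C, sub_eq_zero] at h
      rw [IsScalarTower.algebraMap_apply R R₁ (AdjoinRoot q)]
      exact h
    · obtain ⟨y, hy⟩ := h₁ z hz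
      exact ⟨algebraMap R₁ _ y, by rw [← map_pow, hy, ← IsScalarTower.algebraMap_apply]⟩

/-- Roots of finitely many coefficients. -/
theorem exists_roots' (p : ℕ) [Fact p.Prime] [CharP R p] (s : Finset R) :
    ∃ (R'' : Type u) (_ : CommRing R'') (_ : Algebra R R'') (_ : CharP R'' p) (_ : Module.Free R R'')
      (_ : Module.Finite R R''), ∀ x ∈ s, ∃ y : R'', y ^ p = algebraMap R R'' x := by
  obtain ⟨R'', i1, i2, i3, i4, i5, h⟩ := exists_roots p s.toList R
  exact ⟨R'', i1, i2, i3, i4, i5, fun x hx => h x (Finset.mem_toList.2 hx)⟩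

theorem map_dlt {S : Type u} [CommRing S] (φ : R →+* S) (f : (Polynomial R)ˣ) :
    MvPolynomial.map φ (dlt f) = dlt (Units.map (Polynomial.mapRingHom φ).toMonoidHom f) := by
  have e : ∀ (a : MvPolynomial (Fin 2) R) (q : Polynomial R),
      MvPolynomial.map φ (Polynomial.aeval a q) = Polynomial.aeval (MvPolynomial.map φ a) (q.map φ) := fun a q => by
    rw [Polynomial.aeval_def, Polynomial.aeval_def, Polynomial.hom_eval₂, Polynomial.eval₂_map]
    congr 1
    ext r
    simp
  simp only [GaExt.dlt, at0, at1, at01, map_mul, e, map_add, MvPolynomial.map_X, ← map_inv, Units.coe_map]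
  rfl

theorem map_wfun' {S : Type u} [CommRing S] (φ : R →+* S) (s : ℕ) :
    MvPolynomial.map φ (wfun p (MvPolynomial.X 0 ^ p ^ s) (MvPolynomial.X 1 ^ p ^ s) : P2) =
      wfun p (MvPolynomial.X 0 ^ p ^ s) (MvPolynomial.X 1 ^ p ^ s) := by
  rw [map_wfun]
  simp

theorem map_delta {S : Type u} [CommRing S] (φ : R →+* S) (G : Polynomial R) :
    MvPolynomial.map φ (delta MvPolynomial.C G (MvPolynomial.X 0) (MvPolynomial.X 1) : P2) =
      delta MvPolynomial.C (G.map φ) (MvPolynomial.X 0) (MvPolynomial.X 1) := by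
  simp only [delta, map_add, map_sub, Polynomial.hom_eval₂, Polynomial.eval₂_map, MvPolynomial.map_X]
  have : (MvPolynomial.map (σ := Fin 2) φ).comp MvPolynomial.C = MvPolynomial.C.comp φ := by ext r; simp
  rw [this]

theorem map_mem {S : Type u} [CommRing S] (φ : R →+* S) {J : Ideal R} {x : P2} (hx : x ∈ J.map MvPolynomial.C) :
    MvPolynomial.map φ x ∈ (J.map φ).map MvPolynomial.C := by
  have h := Ideal.mem_map_of_mem (MvPolynomial.map φ) hx
  rw [Ideal.map_map] at h ⊢
  rwa [show (MvPolynomial.map (σ := Fin 2) φ).comp MvPolynomial.C = MvPolynomial.C.comp φ from by ext r; simp] at h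

theorem map_dec {S : Type u} [CommRing S] (φ : R →+* S) {J : Ideal R} {g : P2} {G : Polynomial R} {M : ℕ}
    {c c' : ℕ → R} (hcc : ∀ s < M, c' s = c s)
    (h : g - (delta MvPolynomial.C G (MvPolynomial.X 0) (MvPolynomial.X 1) +
        ∑ s ∈ Finset.range M, MvPolynomial.C (c s) *
          wfun p (MvPolynomial.X 0 ^ p ^ s) (MvPolynomial.X 1 ^ p ^ s)) ∈ J.map MvPolynomial.C) :
    MvPolynomial.map φ g - (delta MvPolynomial.C (G.map φ) (MvPolynomial.X 0) (MvPolynomial.X 1) +
        ∑ s ∈ Finset.range M, MvPolynomial.C (φ (c' s)) *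
          wfun p (MvPolynomial.X 0 ^ p ^ s) (MvPolynomial.X 1 ^ p ^ s)) ∈ (J.map φ).map MvPolynomial.C := by
  have h2 := map_mem φ h
  rw [map_sub, map_add, map_delta, map_sum] at h2
  refine Eq.mpr (congrArg (fun z => _ - (_ + z) ∈ _) (Finset.sum_congr rfl fun s hs => ?_)) h2
  rw [map_mul, MvPolynomial.map_C, map_wfun, hcc s (Finset.mem_range.1 hs)]
  simp

include hp in
/-- A normalised cocycle splits after a finite free extension. -/
theorem exists_splitting_ext (h : P2) (hu : IsUnit h) (hc0 : h.coeff 0 = 1) (hh : MCoc h) :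
    ∃ (R' : Type u) (_ : CommRing R') (_ : Algebra R R') (_ : CharP R' p) (_ : Module.Free R R')
      (_ : Module.Finite R R') (f : (Polynomial R')ˣ), dlt f * MvPolynomial.map (algebraMap R R') h = 1 := by
  classical
  let I : Ideal R := Ideal.span ↑((h - 1).support.image fun m => (h - 1).coeff m)
  have hI : IsNilpotent I := by
    refine (Ideal.FG.isNilpotent_iff_le_nilradical (Submodule.fg_span (Finset.finite_toSet _))).mpr
      (Ideal.span_le.mpr ?_)
    intro x hx
    obtain ⟨m, -, rfl⟩ := Finset.mem_image.mp (Finset.mem_coe.mp hx)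
    rw [SetLike.mem_coe, mem_nilradical]
    by_cases hm : m = 0
    · subst hm; simp [hc0]
    · simpa [MvPolynomial.coeff_one, Ne.symm hm] using (MvPolynomial.isUnit_iff.mp hu).2 m hm
  have h1 : h - 1 ∈ (I ^ 1).map MvPolynomial.C := by
    rw [pow_one, MvPolynomial.mem_map_C_iff]
    intro m
    by_cases hm : m ∈ (h - 1).support
    · exact Ideal.subset_span (Finset.mem_coe.mpr (Finset.mem_image_of_mem _ hm))
    · rw [MvPolynomial.notMem_support_iff.mp hm]; exact I.zero_mem
  have hit : ∀ k : ℕ, ∃ (R' : Type u) (_ : CommRing R') (_ : Algebra R R') (_ : CharP R' p) (_ : Module.Free R R')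
      (_ : Module.Finite R R') (f : (Polynomial R')ˣ),
      dlt f * MvPolynomial.map (algebraMap R R') h - 1 ∈ ((I.map (algebraMap R R')) ^ (k + 1)).map MvPolynomial.C := by
    intro k
    induction k with
    | zero => exact ⟨R, inferInstance, inferInstance, inferInstance, inferInstance, inferInstance, 1, by
        rw [dlt_one, one_mul]
        have h2 := map_mem (algebraMap R R) h1
        rw [map_sub, map_one, Ideal.map_pow] at h2
        exact h2⟩
    | succ k ih =>
      obtain ⟨R₁, _, _, _, _, _, f, hf⟩ := ih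
      let H₁ := dlt f * MvPolynomial.map (algebraMap R R₁) h
      have hh₁ : MCoc (MvPolynomial.map (algebraMap R R₁) h) := by
        have e : ∀ {n : ℕ} (x y : MvPolynomial (Fin n) R) (q : P2),
            MvPolynomial.map (algebraMap R R₁) (MvPolynomial.aeval ![x, y] q) =
              MvPolynomial.aeval ![MvPolynomial.map (algebraMap R R₁) x, MvPolynomial.map (algebraMap R R₁) y]
                (MvPolynomial.map (algebraMap R R₁) q) := fun x y q => by
          induction q using MvPolynomial.induction_on with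
          | C a => simp
          | add a b ha hb => simp [ha, hb]
          | mul_X a i ha => fin_cases i <;> simp [ha]
        constructor
        · have h2 := congrArg (MvPolynomial.map (algebraMap R R₁)) hh.1
          simpa [e] using h2
        · have h2 := congrArg (MvPolynomial.map (algebraMap R R₁)) hh.2
          simpa [e] using h2
      obtain ⟨G, M, c, hG, hc, hdec⟩ := exists_decomp p (I.map (algebraMap R R₁)) (k + 1) (by omega) H₁
        ((mcoc_dlt f).mul hh₁) hf
      obtain ⟨R₂, _, _, _, _, _, hroots⟩ := exists_roots' p ((Finset.range M).image fun s => -c s)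
      letI : Algebra R R₂ := ((algebraMap R₁ R₂).comp (algebraMap R R₁)).toAlgebra
      have : IsScalarTower R R₁ R₂ := IsScalarTower.of_algebraMap_eq fun _ => rfl
      have : Module.Free R R₂ := Module.Free.trans (R := R) (S := R₁) (M := R₂)
      have : Module.Finite R R₂ := Module.Finite.trans R₁ R₂
      let φ := algebraMap R₁ R₂
      let c' : ℕ → R₂ := fun s => if s < M then φ (c s) else 0
      have hd : ∀ s, ∃ d : R₂, d ^ p = -c' s := fun s => by
        by_cases hs : s < M
        · obtain ⟨d, hd⟩ := hroots (-c s) (Finset.mem_image.2 ⟨s, Finset.mem_range.2 hs, rfl⟩)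
          exact ⟨d, by simp only [c', if_pos hs]; rw [hd, map_neg]⟩
        · exact ⟨0, by simp only [c', if_neg hs]; rw [zero_pow hp.out.ne_zero, neg_zero]⟩
      choose d hd using hd
      have hI₂ : (I.map (algebraMap R R₁)).map φ = I.map (algebraMap R R₂) := by
        rw [Ideal.map_map]; rfl
      obtain ⟨f', hf'⟩ := exists_step_of_roots p (I.map (algebraMap R R₂))
        (by
          obtain ⟨n, hn⟩ := hI
          exact ⟨n, by rw [← Ideal.map_pow, hn]; exact Ideal.map_bot⟩)
        (k + 1) (by omega) (MvPolynomial.map φ H₁) (by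
          have h2 := map_mem φ hf
          rw [map_sub, map_one, Ideal.map_pow, hI₂] at h2
          exact h2)
        (G.map φ) M c' (by
          have h2 := Ideal.mem_map_of_mem (Polynomial.mapRingHom φ) hG
          rw [Ideal.map_map, Polynomial.mapRingHom_comp_C, ← Ideal.map_map, Ideal.map_pow, hI₂] at h2
          exact h2)
        (fun s => by
          simp only [c']
          split_ifs
          · rw [← hI₂, ← Ideal.map_pow]; exact Ideal.mem_map_of_mem _ (hc s)
          · exact Ideal.zero_mem _)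
        (by
          have h2 := map_dec (c' := fun s => if s < M then c s else 0) p φ (fun s hs => if_pos hs) hdec
          rw [map_sub, map_one, Ideal.map_pow, hI₂] at h2
          simp only [apply_ite φ, map_zero] at h2
          exact h2)
        d hd
      refine ⟨R₂, inferInstance, inferInstance, inferInstance, inferInstance, inferInstance,
        f' * Units.map (Polynomial.mapRingHom φ).toMonoidHom f, ?_⟩
      rw [dlt_mul, mul_assoc, ← map_dlt]
      rwa [map_mul, MvPolynomial.map_map] at hf'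
  obtain ⟨n, hn⟩ := hI
  obtain ⟨R', _, _, _, _, _, f, hf⟩ := hit n
  refine ⟨R', inferInstance, inferInstance, inferInstance, inferInstance, inferInstance, f, sub_eq_zero.mp ?_⟩
  rwa [← Ideal.map_pow, pow_eq_zero_of_le (Nat.le_succ n) hn, Ideal.zero_eq_bot, Ideal.map_bot, Ideal.map_bot,
    Ideal.mem_bot] at hf

end Groth.Agent.GaLoc87
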