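import Groth.Agent.GaFrob87.Lift
import Groth.Agent.GaLoc87.LogData
import Groth.Agent.GaLoc87.Split
import Mathlib.Algebra.Polynomial.AlgebraMap

/-!
# Lifting `p`-torsion sections over the affine line after a finite free extension of the base
-/

set_option autoImplicit false
set_option linter.style.haveILetI false
set_option linter.unusedSectionVars false

universe u

open CategoryTheory CategoryTheory.Limits AlgebraicGeometry Opposite MonObj GrpObj MonoidalCategory CartesianMonoidalCategory
open Groth.Agent.SGA1Torsor Groth.Agent.GaExt87 Groth.Agent.GaFrob87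

noncomputable section

namespace Groth.Agent.GaLoc87

local notation "Kf" => Scheme.fppfPrecoverage

variable {S : Scheme.{u}} {I Q : BigSite.Ab Kf S} {em : CGrpSh2.Gm Kf S ⟶ I} {π : I ⟶ Q} {w : em ≫ π = 0}

/-- Local lifts and logarithmic data. -/
theorem exists_cover_data (hS : (ShortComplex.mk em π w).ShortExact) {R : Type u} [CommRing R] (p : ℕ) [Fact p.Prime]
    [CharP R p] (j : Spec (CommRingCat.of (Polynomial R)) ⟶ S)
    (s : BigSite.sect Kf Q (Over.mk j)) (hs : p • s = 0) :
    ∃ (m : ℕ) (f : Fin m → Polynomial R) (_ : Ideal.span (Set.range f) = ⊤)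
      (y : ∀ i, BigSite.sect Kf I (QA j (Localization.Away (f i)))) (u : ∀ i, (Localization.Away (f i))ˣ)
      (n : Fin m → ℕ) (H : Fin m → Polynomial R),
      (∀ i, sap π _ (y i) = rr Q (st j (Localization.Away (f i))) s) ∧ (∀ i, emQ em j (u i) = p • y i) ∧
      ∀ i, IsNilpotent (Polynomial.derivative (H i)) ∧ algebraMap _ (Localization.Away (f i)) (H i) =
        (u i : Localization.Away (f i)) * algebraMap _ _ (f i) ^ (p * n i) := by
  classical
  let T : Set (Polynomial R) := {f | ∃ y : BigSite.sect Kf I (QA j (Localization.Away f)),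
    sap π _ y = rr Q (st j (Localization.Away f)) s}
  have hT : Ideal.span T = ⊤ := by
    by_contra hne
    obtain ⟨P, hP, hle⟩ := Ideal.exists_le_maximal _ hne
    obtain ⟨V, hPV, t, ht⟩ := exists_lift_basicOpen hS j s ⟨P, hP.isPrime⟩
    obtain ⟨_, ⟨f, rfl⟩, hPf, hfV⟩ :=
      PrimeSpectrum.isTopologicalBasis_basic_opens.exists_subset_of_mem_open hPV V.isOpen
    refine hPf (hle (Ideal.subset_span ?_))
    let l : Spec (CommRingCat.of (Localization.Away f)) ⟶ (V : Scheme.{u}) :=
      IsOpenImmersion.lift V.ι (Spec.map (CommRingCat.ofHom (algebraMap _ (Localization.Away f)))) (by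
        rw [Scheme.Opens.range_ι]
        show Set.range (PrimeSpectrum.comap (algebraMap _ (Localization.Away f))) ⊆ _
        rw [PrimeSpectrum.localization_away_comap_range (Localization.Away f) f]
        exact hfV)
    have hl : l ≫ V.ι = Spec.map (CommRingCat.ofHom (algebraMap _ (Localization.Away f))) :=
      IsOpenImmersion.lift_fac _ _ _
    let g : QA j (Localization.Away f) ⟶ Over.mk (V.ι ≫ j) := Over.homMk l (by
      show l ≫ V.ι ≫ j = Spec.map _ ≫ j
      rw [reassoc_of% hl])
    refine ⟨rr I g t, ?_⟩
    rw [sap_rr, ht, ← rr_comp]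
    exact congrArg (fun h => rr Q h s) (Over.OverMorphism.ext hl)
  obtain ⟨T', hT'T, hT'⟩ := Submodule.mem_span_finite_of_mem_span ((Ideal.eq_top_iff_one _).1 hT)
  let e := T'.equivFin.symm
  let f : Fin T'.card → Polynomial R := fun i => (e i : Polynomial R)
  have hf : Ideal.span (Set.range f) = ⊤ := (Ideal.eq_top_iff_one _).2 (by
    refine Ideal.span_mono ?_ hT'
    intro x hx
    exact ⟨e.symm ⟨x, hx⟩, by simp [f]⟩)
  choose y hy using fun i : Fin T'.card => hT'T (e i).2
  have hu : ∀ i, ∃ u : (Localization.Away (f i))ˣ, emQ em j u = p • y i := fun i =>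
    exists_emQ hS j _ (by rw [map_nsmul, hy, ← map_nsmul, hs, map_zero])
  choose u hu using hu
  have hd : ∀ k i, ∃ a : (Localization.Away (f k * f i))ˣ,
      emQ em j a = rr I (qmap j (toL (f k) (f i))) (y k) - rr I (qmap j (toR (f k) (f i))) (y i) := fun k i =>
    exists_emQ hS j _ (by rw [map_sub, sap_rr, sap_rr, hy, hy, rr_qmap_st, rr_qmap_st, sub_self])
  choose a ha using hd
  have hrel : ∀ k i, (a k i : Localization.Away (f k * f i)) ^ p * toR (f k) (f i) (u i : Localization.Away (f i)) =
      toL (f k) (f i) (u k : Localization.Away (f k)) := fun k i =>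
    congrArg Units.val (emQ_injective hS j
      (a₁ := a k i ^ p * Units.map (toR (f k) (f i)).toMonoidHom (u i))
      (a₂ := Units.map (toL (f k) (f i)).toMonoidHom (u k)) (by
        rw [emQ_mul, emQ_pow, ← rr_emQ, ← rr_emQ, ha, hu, hu, map_nsmul, map_nsmul, ← nsmul_add, sub_add_cancel]))
  obtain ⟨n, H, hH⟩ := exists_log_data p f hf a u hrel
  exact ⟨_, f, hf, y, u, n, H, hy, hu, hH⟩

/-- Gluing from roots. -/
theorem exists_glue_of_data (hS : (ShortComplex.mk em π w).ShortExact) {R : Type u} [CommRing R] (p : ℕ) [Fact p.Prime]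
    [CharP R p] (j : Spec (CommRingCat.of (Polynomial R)) ⟶ S) (s : BigSite.sect Kf Q (Over.mk j))
    {m : ℕ} (f : Fin m → Polynomial R) (hf : Ideal.span (Set.range f) = ⊤)
    (y : ∀ i, BigSite.sect Kf I (QA j (Localization.Away (f i))))
    (hy : ∀ i, sap π _ (y i) = rr Q (st j (Localization.Away (f i))) s)
    (u : ∀ i, (Localization.Away (f i))ˣ) (hu : ∀ i, emQ em j (u i) = p • y i)
    (n : Fin m → ℕ) (H G : Fin m → Polynomial R) (hH : ∀ i, algebraMap _ (Localization.Away (f i)) (H i) =
        (u i : Localization.Away (f i)) * algebraMap _ _ (f i) ^ (p * n i))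
    (hG : ∀ i, IsNilpotent (H i - G i ^ p)) : ∃ t, sap π (Over.mk j) t = s := by
  classical
  have hd : ∀ k i, ∃ a : (Localization.Away (f k * f i))ˣ,
      emQ em j a = rr I (qmap j (toL (f k) (f i))) (y k) - rr I (qmap j (toR (f k) (f i))) (y i) := fun k i =>
    exists_emQ hS j _ (by rw [map_sub, sap_rr, sap_rr, hy, hy, rr_qmap_st, rr_qmap_st, sub_self])
  choose a ha using hd
  have hrel : ∀ k i, (a k i : Localization.Away (f k * f i)) ^ p * toR (f k) (f i) (u i : Localization.Away (f i)) =
      toL (f k) (f i) (u k : Localization.Away (f k)) := fun k i =>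
    congrArg Units.val (emQ_injective hS j
      (a₁ := a k i ^ p * Units.map (toR (f k) (f i)).toMonoidHom (u i))
      (a₂ := Units.map (toL (f k) (f i)).toMonoidHom (u k)) (by
        rw [emQ_mul, emQ_pow, ← rr_emQ, ← rr_emQ, ha, hu, hu, map_nsmul, map_nsmul, ← nsmul_add, sub_add_cancel]))
  have hc : IsCoc f a := fun k l i C _ _ h₁ h₂ h₃ =>
    congrArg Units.val (emQ_injective hS j
      (a₁ := Units.map (awayTo _ C h₁).toMonoidHom (a k l) * Units.map (awayTo _ C h₂).toMonoidHom (a l i))
      (a₂ := Units.map (awayTo _ C h₃).toMonoidHom (a k i)) (by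
        rw [emQ_mul, ← rr_emQ, ← rr_emQ, ← rr_emQ, ha, ha, ha, map_sub, map_sub, map_sub, rr_qmap_qmap,
          rr_qmap_qmap, rr_qmap_qmap, rr_qmap_qmap, rr_qmap_qmap, rr_qmap_qmap,
          away_hom_ext ((awayTo _ C h₂).comp (toL (f l) (f i))) ((awayTo _ C h₁).comp (toR (f k) (f l))),
          away_hom_ext ((awayTo _ C h₃).comp (toL (f k) (f i))) ((awayTo _ C h₁).comp (toL (f k) (f l))),
          away_hom_ext ((awayTo _ C h₃).comp (toR (f k) (f i))) ((awayTo _ C h₂).comp (toR (f l) (f i)))]
        abel))
  obtain ⟨v, hv⟩ := exists_approx_of_root p f a u hrel n H G hH hG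
  obtain ⟨t, ht⟩ := exists_coboundary f hf a hc v hv
  let y' : ∀ i, BigSite.sect Kf I (QA j (Localization.Away (f i))) := fun i => y i - emQ em j (t i)
  have hy' : ∀ k i, rr I (qmap j (toL (f k) (f i))) (y' k) = rr I (qmap j (toR (f k) (f i))) (y' i) := fun k i => by
    have h1 : Units.map (toL (f k) (f i)).toMonoidHom (t k) =
        a k i * Units.map (toR (f k) (f i)).toMonoidHom (t i) := Units.ext (ht k i).symm
    simp only [y', map_sub, rr_emQ]
    rw [h1, emQ_mul, ha]
    abel
  have himm : ∀ (g : Polynomial R), IsOpenImmersion (st j (Localization.Away g)).left := fun g =>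
    IsOpenImmersion.of_isLocalization g
  have hrange : ∀ (g : Polynomial R),
      Set.range (st j (Localization.Away g)).left = (PrimeSpectrum.basicOpen g : Set (PrimeSpectrum (Polynomial R))) :=
    fun g => PrimeSpectrum.localization_away_comap_range (Localization.Away g) g
  have hcov : Presieve.ofArrows (fun i => (QA j (Localization.Away (f i))).left)
      (fun i => (st j (Localization.Away (f i))).left) ∈ (Kf).coverings (Over.mk j).left := by
    refine Scheme.zariskiPrecoverage_le_fppfPrecoverage _ ?_
    rw [Scheme.zariskiPrecoverage, Scheme.ofArrows_mem_precoverage_iff]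
    refine ⟨fun x => ?_, fun i => himm _⟩
    obtain ⟨i, hi⟩ : ∃ i, f i ∉ (show PrimeSpectrum (Polynomial R) from x).asIdeal := by
      by_contra hne
      push Not at hne
      exact (show PrimeSpectrum (Polynomial R) from x).isPrime.ne_top
        (top_le_iff.1 (hf ▸ Ideal.span_le.2 (Set.range_subset_iff.2 hne)))
    exact ⟨i, (hrange (f i)).ge hi⟩
  obtain ⟨t', ht'⟩ := exists_glue I (fun i => QA j (Localization.Away (f i))) (fun i => st j (Localization.Away (f i)))
    hcov y' (fun k i Z gk gi hg => by
      haveI := himm (f k * f i)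
      haveI := himm (f k)
      haveI := himm (f i)
      let l : Z.left ⟶ (QA j (Localization.Away (f k * f i))).left :=
        IsOpenImmersion.lift (st j (Localization.Away (f k * f i))).left (gk.left ≫ (st j _).left) (by
          rintro _ ⟨z, rfl⟩
          rw [hrange]
          show f k * f i ∉ ((gk.left ≫ (st j (Localization.Away (f k))).left) z).asIdeal
          intro hmem
          rcases ((gk.left ≫ (st j (Localization.Away (f k))).left) z).isPrime.mem_or_mem hmem with h | h
          · exact (hrange (f k)).le ⟨gk.left z, rfl⟩ (by simpa using h)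
          · have e : gk.left ≫ (st j (Localization.Away (f k))).left = gi.left ≫ (st j (Localization.Away (f i))).left :=
              congrArg CommaMorphism.left hg
            rw [e] at h
            exact (hrange (f i)).le ⟨gi.left z, rfl⟩ (by simpa using h))
      have hl : l ≫ (st j (Localization.Away (f k * f i))).left = gk.left ≫ (st j (Localization.Away (f k))).left :=
        IsOpenImmersion.lift_fac _ _ _
      let h : Z ⟶ QA j (Localization.Away (f k * f i)) := Over.homMk l (by
        show l ≫ (Spec.map _ ≫ j) = Z.hom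
        rw [← Category.assoc]
        exact (congrArg (· ≫ j) hl).trans ((Category.assoc _ _ _).trans (Over.w gk)))
      have hk : h ≫ qmap j (toL (f k) (f i)) = gk := Over.OverMorphism.ext ((cancel_mono (st j _).left).1 (by
        refine Eq.trans ?_ hl
        exact (Category.assoc _ _ _).trans (congrArg (l ≫ ·) (congrArg CommaMorphism.left (qmap_st j (toL (f k) (f i)))))))
      have hi : h ≫ qmap j (toR (f k) (f i)) = gi := Over.OverMorphism.ext ((cancel_mono (st j _).left).1 (by
        refine Eq.trans ?_ (hl.trans (congrArg CommaMorphism.left hg))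
        exact (Category.assoc _ _ _).trans (congrArg (l ≫ ·) (congrArg CommaMorphism.left (qmap_st j (toR (f k) (f i)))))))
      rw [← hk, ← hi, rr_comp, rr_comp, hy'])
  refine ⟨t', eq_of_cover Q (fun i => QA j (Localization.Away (f i))) (fun i => st j (Localization.Away (f i)))
    hcov fun i => ?_⟩
  rw [← sap_rr, ht', map_sub, hy, show sap π _ (emQ em j (t i)) = 0 from sap_emb em _ _ w, sub_zero]


theorem nilp_of_roots {R R' : Type u} [CommRing R] [CommRing R'] [Algebra R R'] (p : ℕ) [Fact p.Prime] [CharP R p]
    [CharP R' p] {H : Polynomial R} (hH : IsNilpotent (Polynomial.derivative H))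
    (hr : ∀ c ∈ (Polynomial.contract p H).coeffs, ∃ r : R', r ^ p = algebraMap R R' c) :
    ∃ G : Polynomial R', IsNilpotent (H.map (algebraMap R R') - G ^ p) := by
  classical
  have hr' : ∀ c : R, ∃ r : R', c ∈ (Polynomial.contract p H).coeffs → r ^ p = algebraMap R R' c := fun c => by
    by_cases hc : c ∈ (Polynomial.contract p H).coeffs
    · obtain ⟨r, hr⟩ := hr c hc; exact ⟨r, fun _ => hr⟩
    · exact ⟨0, fun h => absurd h hc⟩
  choose r hr' using hr'
  let C := Polynomial.contract p H
  let G : Polynomial R' := ∑ i ∈ C.support, Polynomial.C (r (C.coeff i)) * Polynomial.X ^ i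
  refine ⟨G, ?_⟩
  have e : G ^ p = Polynomial.expand R' p (C.map (algebraMap R R')) := by
    rw [← Polynomial.map_frobenius_expand (R := R') p G, Polynomial.map_expand]
    congr 1
    conv_rhs => rw [C.as_sum_support_C_mul_X_pow]
    simp only [G, Polynomial.map_sum, Polynomial.map_mul, Polynomial.map_C, Polynomial.map_pow, Polynomial.map_X]
    refine Finset.sum_congr rfl fun i hi => ?_
    rw [frobenius_def, hr' _ (Polynomial.coeff_mem_coeffs (Polynomial.mem_support_iff.1 hi))]
  rw [e, ← Polynomial.map_expand, ← Polynomial.map_sub]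
  exact (isNilpotent_sub_expand p hH).map (Polynomial.mapRingHom (algebraMap R R'))

variable {A : Type u} [CommRing A]

/-- A `p`-torsion section over the affine line lifts after a finite free extension. -/
theorem exists_lift_torsion_ext (hS : (ShortComplex.mk em π w).ShortExact) (p : ℕ) [Fact p.Prime] [CharP A p]
    (jA : Spec (CommRingCat.of A) ⟶ S) (s : BigSite.sect Kf Q (QA jA (Polynomial A))) (hs : p • s = 0) :
    ∃ (A' : Type u) (_ : CommRing A') (_ : Algebra A A') (_ : CharP A' p) (_ : Module.Free A A')
      (_ : Module.Finite A A') (t : BigSite.sect Kf I (QA jA (Polynomial A'))),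
      sap π _ t = rr Q (qmap jA (Polynomial.mapAlgHom (Algebra.ofId A A'))) s := by
  classical
  let jB : Spec (CommRingCat.of (Polynomial A)) ⟶ S := Spec.map (CommRingCat.ofHom (algebraMap A (Polynomial A))) ≫ jA
  obtain ⟨m, f, hf, y, u, n, H, hy, hu, hH⟩ := exists_cover_data hS p jB s hs
  obtain ⟨A', _, _, _, _, _, hroots⟩ := exists_roots' p (R := A)
    (Finset.univ.biUnion fun k => (Polynomial.contract p (H k)).coeffs)
  refine ⟨A', inferInstance, inferInstance, inferInstance, inferInstance, inferInstance, ?_⟩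
  let mm : Polynomial A →ₐ[A] Polynomial A' := Polynomial.mapAlgHom (Algebra.ofId A A')
  let j' : Spec (CommRingCat.of (Polynomial A')) ⟶ S := Spec.map (CommRingCat.ofHom (algebraMap A (Polynomial A'))) ≫ jA
  let f' : Fin m → Polynomial A' := fun i => mm (f i)
  have hf' : Ideal.span (Set.range f') = ⊤ := by
    have h1 := congrArg (Ideal.map mm.toRingHom) hf
    rw [Ideal.map_span, Ideal.map_top, ← Set.range_comp] at h1
    exact h1
  let ρ : ∀ i, Localization.Away (f i) →+* Localization.Away (f' i) := fun i =>
    IsLocalization.Away.lift (f i) (g := (algebraMap (Polynomial A') (Localization.Away (f' i))).comp mm.toRingHom)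
      (GaFrob87.isUnit_algebraMap_away (f' i))
  have hρ : ∀ i (x : Polynomial A), ρ i (algebraMap _ _ x) = algebraMap _ _ (mm x) := fun i x =>
    IsLocalization.Away.lift_eq _ _ _
  let g : ∀ i, QA j' (Localization.Away (f' i)) ⟶ QA jB (Localization.Away (f i)) := fun i =>
    Over.homMk (Spec.map (CommRingCat.ofHom (ρ i))) (by
      show Spec.map _ ≫ Spec.map _ ≫ Spec.map _ ≫ jA = Spec.map _ ≫ Spec.map _ ≫ jA
      rw [← Spec.map_comp_assoc, ← Spec.map_comp_assoc, ← Spec.map_comp_assoc, ← CommRingCat.ofHom_comp,
        ← CommRingCat.ofHom_comp, ← CommRingCat.ofHom_comp]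
      refine congrArg (fun r => Spec.map (CommRingCat.ofHom r) ≫ jA) (RingHom.ext fun x => ?_)
      exact (hρ i _).trans (congrArg _ (mm.commutes x)))
  have hsq : ∀ i, g i ≫ st jB (Localization.Away (f i)) =
      st j' (Localization.Away (f' i)) ≫ (qmap jA mm : Over.mk j' ⟶ Over.mk jB) := fun i => Over.OverMorphism.ext (by
    show Spec.map _ ≫ Spec.map _ = Spec.map _ ≫ Spec.map _
    rw [← Spec.map_comp, ← Spec.map_comp, ← CommRingCat.ofHom_comp, ← CommRingCat.ofHom_comp]
    exact congrArg (fun r => Spec.map (CommRingCat.ofHom r)) (RingHom.ext fun x => hρ i x))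
  have hemb : ∀ i (a : (Localization.Away (f i))ˣ), rr I (g i) (emQ em jB a) = emQ em j' (Units.map (ρ i).toMonoidHom a) :=
    fun i a => by
      refine (rr_emb em (g i) _).trans (congrArg (emb em _) (Units.ext ?_))
      exact congr($((Scheme.ΓSpecIso_inv_naturality (CommRingCat.ofHom (ρ i))).symm) (a : Localization.Away (f i)))
  choose G hG using fun i => nilp_of_roots (R' := A') p (hH i).1 (fun c hc =>
    hroots c (Finset.mem_biUnion.2 ⟨i, Finset.mem_univ _, hc⟩))
  exact exists_glue_of_data hS p j' (rr Q (qmap jA mm) s) f' hf' (fun i => rr I (g i) (y i))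
    (fun i => by rw [sap_rr, hy, ← rr_comp, hsq, rr_comp])
    (fun i => Units.map (ρ i).toMonoidHom (u i))
    (fun i => by rw [← hemb, hu, map_nsmul])
    n (fun i => (H i).map (algebraMap A A')) G
    (fun i => by
      have h1 := congrArg (ρ i) (hH i).2
      rw [map_mul, map_pow, hρ, hρ] at h1
      exact h1)
    hG

end Groth.Agent.GaLoc87
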