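import Groth.Agent.GaLoc87.Coord
import Groth.Agent.GaLoc87.Derived
import Mathlib.RingTheory.Finiteness.ModuleFinitePresentation

/-!
# Morphisms out of the additive group lift locally along quotients by the multiplicative group
-/

set_option autoImplicit false
set_option linter.style.haveILetI false
set_option linter.unusedSectionVars false

universe u

open CategoryTheory CategoryTheory.Limits AlgebraicGeometry Opposite MonObj GrpObj MonoidalCategory CartesianMonoidalCategory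
open Groth.Agent.SGA1Torsor Groth.Agent.GaExt87 Groth.Agent.GaFrob87

noncomputable section

namespace Groth.Agent.GaLoc87

local notation "Kf" => Scheme.fppfPrecoverage

variable {S : Scheme.{u}} {I Q : BigSite.Ab Kf S} {em : CGrpSh2.Gm Kf S ⟶ I} {π : I ⟶ Q} {w : em ≫ π = 0}

/-- The normalised translate of a section over the affine line. -/
def Lr {A : Type u} [CommRing A] {j : Spec (CommRingCat.of A) ⟶ S} (x : BigSite.sect Kf I (QA j (Polynomial A)))
    {Z : Over S} (h : Z ⟶ Over.mk j) (q : Z ⟶ Red.Ga S) : BigSite.sect Kf I Z :=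
  rr I (coordR h q) x - rr I (coordR h 1) x

/-- The defect of additivity. -/
def Er {A : Type u} [CommRing A] {j : Spec (CommRingCat.of A) ⟶ S} (x : BigSite.sect Kf I (QA j (Polynomial A)))
    {Z : Over S} (h : Z ⟶ Over.mk j) (q q' : Z ⟶ Red.Ga S) : BigSite.sect Kf I Z :=
  Lr x h q + Lr x h q' - Lr x h (q * q')

theorem rr_Lr {A : Type u} [CommRing A] {j : Spec (CommRingCat.of A) ⟶ S} (x : BigSite.sect Kf I (QA j (Polynomial A)))
    {Z Z' : Over S} (k : Z' ⟶ Z) (h : Z ⟶ Over.mk j) (q : Z ⟶ Red.Ga S) :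
    rr I k (Lr x h q) = Lr x (k ≫ h) (k ≫ q) := by
  simp only [Lr, map_sub, ← rr_comp, comp_coordR, MonObj.comp_one]

theorem rr_Er {A : Type u} [CommRing A] {j : Spec (CommRingCat.of A) ⟶ S} (x : BigSite.sect Kf I (QA j (Polynomial A)))
    {Z Z' : Over S} (k : Z' ⟶ Z) (h : Z ⟶ Over.mk j) (q q' : Z ⟶ Red.Ga S) :
    rr I k (Er x h q q') = Er x (k ≫ h) (k ≫ q) (k ≫ q') := by
  simp only [Er, map_sub, map_add, rr_Lr, MonObj.comp_mul]

theorem gaQ_zero' {A : Type u} [CommRing A] (j : Spec (CommRingCat.of A) ⟶ S) {D : Type u} [CommRing D] [Algebra A D] :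
    gaQ j (0 : D) = 1 := by
  let : Group (QA j D ⟶ Red.Ga S) := Hom.group
  have h := gaQ_mul j (R := D) 0 0
  rw [add_zero] at h
  exact left_eq_mul.1 h

theorem cover_props {A A' : Type u} [CommRing A] [CommRing A'] [Algebra A A'] [Module.Free A A'] [Module.Finite A A']
    [Nontrivial A] [Nontrivial A'] (j : Spec (CommRingCat.of A) ⟶ S) :
    Flat (st j A').left ∧ LocallyOfFinitePresentation (st j A').left ∧ Surjective (st j A').left := by
  have : Module.FinitePresentation A A' := Module.finitePresentation_of_projective A A'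
  exact ⟨HasRingHomProperty.Spec_iff.2 (RingHom.flat_algebraMap_iff.2 inferInstance),
    HasRingHomProperty.Spec_iff.2 (RingHom.finitePresentation_algebraMap.2 inferInstance),
    ⟨PrimeSpectrum.comap_surjective_of_faithfullyFlat (A := A) (B := A')⟩⟩

/-- The identity, from an algebra over the extended chart to the same algebra over the chart. -/
def bcInc {A : Type u} [CommRing A] (j : Spec (CommRingCat.of A) ⟶ S) (A' : Type u) [CommRing A'] [Algebra A A']
    (D : Type u) [CommRing D] [Algebra A D] [Algebra A' D] [IsScalarTower A A' D] : QA (bcj j A') D ⟶ QA j D :=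
  Over.homMk (𝟙 (Spec (CommRingCat.of D))) (by
    show 𝟙 _ ≫ Spec.map _ ≫ j = Spec.map _ ≫ Spec.map _ ≫ j
    rw [Category.id_comp, ← Spec.map_comp_assoc, ← CommRingCat.ofHom_comp, ← IsScalarTower.algebraMap_eq])

theorem bcInc_qmap {A : Type u} [CommRing A] (j : Spec (CommRingCat.of A) ⟶ S) (A' : Type u) [CommRing A'] [Algebra A A'] :
    bcInc j A' (Polynomial A') ≫ qmap j (Polynomial.mapAlgHom (Algebra.ofId A A')) = bcLine j A' :=
  Over.OverMorphism.ext (by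
    show 𝟙 _ ≫ Spec.map (CommRingCat.ofHom (Polynomial.mapAlgHom (Algebra.ofId A A')).toRingHom) =
      Spec.map (CommRingCat.ofHom (Polynomial.mapRingHom (algebraMap A A')))
    rw [Category.id_comp]
    exact congrArg (fun r => Spec.map (CommRingCat.ofHom r))
      (Polynomial.ringHom_ext (fun a => by simp) (by simp)))

theorem exists_ext_hom (hS : (ShortComplex.mk em π w).ShortExact) (p : ℕ) [Fact p.Prime] {A : Type u} [CommRing A]
    [CharP A p] [Nontrivial A] (j : Spec (CommRingCat.of A) ⟶ S)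
    (Ψ : ∀ {Z : Over S}, (Z ⟶ Over.mk j) → (Z ⟶ Red.Ga S) → BigSite.sect Kf Q Z)
    (hΨn : ∀ {Z Z' : Over S} (k : Z' ⟶ Z) (h : Z ⟶ Over.mk j) (q : Z ⟶ Red.Ga S),
      rr Q k (Ψ h q) = Ψ (k ≫ h) (k ≫ q))
    (hΨa : ∀ {Z : Over S} (h : Z ⟶ Over.mk j) (q q' : Z ⟶ Red.Ga S), Ψ h (q * q') = Ψ h q + Ψ h q') :
    ∃ (W : Over S) (g : W ⟶ Over.mk j) (L : ∀ {Z : Over S}, (Z ⟶ W) → (Z ⟶ Red.Ga S) → BigSite.sect Kf I Z),
      (Flat g.left ∧ LocallyOfFinitePresentation g.left ∧ Surjective g.left) ∧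
      (∀ {Z Z' : Over S} (k : Z' ⟶ Z) (h : Z ⟶ W) (q : Z ⟶ Red.Ga S), rr I k (L h q) = L (k ≫ h) (k ≫ q)) ∧
      (∀ {Z : Over S} (h : Z ⟶ W) (q q' : Z ⟶ Red.Ga S), L h (q * q') = L h q + L h q') ∧
      ∀ {Z : Over S} (h : Z ⟶ W) (q : Z ⟶ Red.Ga S), sap π Z (L h q) = Ψ (h ≫ g) q := by
  have hΨ1 : ∀ {Z : Over S} (h : Z ⟶ Over.mk j), Ψ h 1 = 0 := fun {Z} h => by
    let : Group (Z ⟶ Red.Ga S) := Hom.group
    have h1 := hΨa h 1 1
    rw [_root_.mul_one] at h1
    exact left_eq_add.1 h1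
  let s : BigSite.sect Kf Q (QA j (Polynomial A)) := Ψ (st j (Polynomial A)) (gaQ j Polynomial.X)
  have hs : p • s = 0 := by
    have h : ∀ n : ℕ, n • s = Ψ (st j (Polynomial A)) (gaQ j ((n : Polynomial A) * Polynomial.X)) := fun n => by
      induction n with
      | zero => rw [zero_smul, Nat.cast_zero, zero_mul, gaQ_zero', hΨ1]
      | succ n ih => rw [succ_nsmul, ih, Nat.cast_succ, add_mul, _root_.one_mul, gaQ_mul, hΨa]
    rw [h, CharP.cast_eq_zero, zero_mul, gaQ_zero', hΨ1]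
  -- the first extension: a lift over the affine line
  obtain ⟨A₁, _, _, _, _, _, t, ht⟩ := exists_lift_torsion_ext hS p j s hs
  haveI : Nontrivial A₁ := CharP.nontrivial_of_char_ne_one (R := A₁) (Fact.out (p := p.Prime)).ne_one
  let j₁ := bcj j A₁
  let g₁ : Over.mk j₁ ⟶ Over.mk j := st j A₁
  let x₁ : BigSite.sect Kf I (QA j₁ (Polynomial A₁)) := rr I (bcInc j A₁ (Polynomial A₁)) t
  have hx₁ : sap π _ x₁ = rr Q (bcLine j A₁) s := by
    rw [sap_rr, ht, ← rr_comp, bcInc_qmap]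
  have hπ₁ : ∀ {Z : Over S} (h : Z ⟶ Over.mk j₁) (q : Z ⟶ Red.Ga S), sap π Z (Lr x₁ h q) = Ψ (h ≫ g₁) q := by
    intro Z h q
    have key : ∀ q : Z ⟶ Red.Ga S, sap π Z (rr I (coordR h q) x₁) = Ψ (h ≫ g₁) q := fun q => by
      rw [sap_rr, hx₁, ← rr_comp, coordR_bc, hΨn, coordR_X, coordR, toQR_st]
    rw [Lr, map_sub, key, key, hΨ1, sub_zero]
  -- the defect
  obtain ⟨v, hv⟩ := exists_emQ hS j₁ (Er x₁ (st j₁ (MvPolynomial (Fin 2) A₁))
    (gaQ j₁ (MvPolynomial.X 0 : MvPolynomial (Fin 2) A₁)) (gaQ j₁ (MvPolynomial.X 1))) (by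
      simp only [Er, map_sub, map_add, hπ₁, hΨa, sub_self])
  have key : ∀ (D : Type u) [CommRing D] [Algebra A₁ D] (c d : D), Er x₁ (st j₁ D) (gaQ j₁ c) (gaQ j₁ d) =
      emQ em j₁ (Units.map (MvPolynomial.aeval ![c, d] : MvPolynomial (Fin 2) A₁ →ₐ[A₁] D).toMonoidHom v) := by
    intro D _ _ c d
    let φ : MvPolynomial (Fin 2) A₁ →ₐ[A₁] D := MvPolynomial.aeval ![c, d]
    have e₀ : qmap j₁ φ ≫ gaQ j₁ (MvPolynomial.X 0) = gaQ j₁ c :=
      (comp_gaQ j₁ φ _).trans (congrArg (gaQ j₁) (MvPolynomial.aeval_X _ _))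
    have e₁ : qmap j₁ φ ≫ gaQ j₁ (MvPolynomial.X 1) = gaQ j₁ d :=
      (comp_gaQ j₁ φ _).trans (congrArg (gaQ j₁) (MvPolynomial.aeval_X _ _))
    rw [← e₀, ← e₁, ← qmap_st j₁ φ, ← rr_Er, ← hv, rr_emQ]
  have hv00 : MvPolynomial.aeval ![(0 : A₁), 0] (v : MvPolynomial (Fin 2) A₁) = 1 := by
    let : Group (QA j₁ A₁ ⟶ Red.Ga S) := Hom.group
    have h0 : Er x₁ (st j₁ A₁) (gaQ j₁ (0 : A₁)) (gaQ j₁ (0 : A₁)) = 0 := by
      simp only [Er, Lr, gaQ_zero']; rw [_root_.one_mul]; abel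
    exact congrArg Units.val (emQ_injective hS j₁ (((key A₁ 0 0).symm.trans h0).trans (emQ_one j₁).symm))
  have hc0 : (v : MvPolynomial (Fin 2) A₁).coeff 0 = 1 := by
    rw [show (![(0 : A₁), 0]) = fun _ => (0 : A₁) from by funext i; fin_cases i <;> rfl] at hv00
    rwa [← MvPolynomial.constantCoeff_eq, ← show (MvPolynomial.aeval (fun _ => (0 : A₁))) (v : MvPolynomial (Fin 2) A₁) =
      MvPolynomial.constantCoeff (v : MvPolynomial (Fin 2) A₁) from by simp]
  have hsymm : ∀ (D : Type u) [CommRing D] [Algebra A₁ D] (c d : D),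
      MvPolynomial.aeval ![d, c] (v : MvPolynomial (Fin 2) A₁) = MvPolynomial.aeval ![c, d] (v : MvPolynomial (Fin 2) A₁) :=
    fun D _ _ c d => congrArg Units.val (emQ_injective hS j₁ ((key D d c).symm.trans (Eq.trans (by
      simp only [Er]
      rw [← gaQ_mul, ← gaQ_mul, add_comm d c]
      abel) (key D c d))))
  have hcoc : ∀ (D : Type u) [CommRing D] [Algebra A₁ D] (a b c : D),
      MvPolynomial.aeval ![b, c] (v : MvPolynomial (Fin 2) A₁) * MvPolynomial.aeval ![a, b + c] (v : MvPolynomial (Fin 2) A₁) =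
      MvPolynomial.aeval ![a + b, c] (v : MvPolynomial (Fin 2) A₁) * MvPolynomial.aeval ![a, b] (v : MvPolynomial (Fin 2) A₁) :=
    fun D _ _ a b c => congrArg Units.val (emQ_injective hS j₁
      (a₁ := Units.map (MvPolynomial.aeval ![b, c] : MvPolynomial (Fin 2) A₁ →ₐ[A₁] D).toMonoidHom v *
        Units.map (MvPolynomial.aeval ![a, b + c] : MvPolynomial (Fin 2) A₁ →ₐ[A₁] D).toMonoidHom v)
      (a₂ := Units.map (MvPolynomial.aeval ![a + b, c] : MvPolynomial (Fin 2) A₁ →ₐ[A₁] D).toMonoidHom v *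
        Units.map (MvPolynomial.aeval ![a, b] : MvPolynomial (Fin 2) A₁ →ₐ[A₁] D).toMonoidHom v) (by
        rw [emQ_mul, emQ_mul, ← key, ← key, ← key, ← key]
        simp only [Er]
        rw [← gaQ_mul, ← gaQ_mul, ← gaQ_mul, ← gaQ_mul, add_assoc a b c]
        abel))
  -- the second extension: splitting the defect
  obtain ⟨A₂, _, _, _, _, _, f, hf⟩ := exists_splitting_ext p (v : MvPolynomial (Fin 2) A₁) v.isUnit hc0
    ⟨(hsymm _ (MvPolynomial.X 0) (MvPolynomial.X 1)).trans (by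
        rw [show (![MvPolynomial.X 0, MvPolynomial.X 1] : Fin 2 → MvPolynomial (Fin 2) A₁) = MvPolynomial.X from by
          funext i; fin_cases i <;> rfl]
        exact MvPolynomial.aeval_X_left_apply _),
      hcoc _ (MvPolynomial.X 0) (MvPolynomial.X 1) (MvPolynomial.X 2)⟩
  haveI : Nontrivial A₂ := CharP.nontrivial_of_char_ne_one (R := A₂) (Fact.out (p := p.Prime)).ne_one
  let j₂ := bcj j₁ A₂
  let g₂ : Over.mk j₂ ⟶ Over.mk j₁ := st j₁ A₂
  let x₂ : BigSite.sect Kf I (QA j₂ (Polynomial A₂)) := rr I (bcLine j₁ A₂) x₁ + emQ em j₂ f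
  have hπ₂ : ∀ {Z : Over S} (h : Z ⟶ Over.mk j₂) (q : Z ⟶ Red.Ga S), sap π Z (Lr x₂ h q) = Ψ (h ≫ g₂ ≫ g₁) q := by
    intro Z h q
    rw [← Category.assoc, ← hπ₁]
    simp only [Lr, x₂, map_add, map_sub, sap_rr, ← rr_comp, coordR_bc,
      show sap π _ (emQ em j₂ f) = 0 from sap_emb em _ _ w, map_zero, add_zero]
    rfl
  have hzero : Er x₂ (st j₂ (MvPolynomial (Fin 2) A₂)) (gaQ j₂ (MvPolynomial.X 0 : MvPolynomial (Fin 2) A₂))
      (gaQ j₂ (MvPolynomial.X 1)) = 0 := by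
    let R₂ := MvPolynomial (Fin 2) A₂
    -- `Lr x₂` in terms of `Lr x₁`
    have hF' : ∀ c : R₂, Lr x₂ (st j₂ R₂) (gaQ j₂ c) = Lr x₁ (st j₂ R₂ ≫ g₂) (gaQ j₂ c) +
        (emQ em j₂ (Units.map (Polynomial.aeval c : Polynomial A₂ →ₐ[A₂] R₂).toMonoidHom f) -
          emQ em j₂ (Units.map (Polynomial.aeval (0 : R₂) : Polynomial A₂ →ₐ[A₂] R₂).toMonoidHom f)) := by
      intro c
      simp only [Lr, x₂, map_add, ← rr_emQ, qmap_aeval, gaQ_zero', ← rr_comp, coordR_bc]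
      rw [show (st j₂ R₂ ≫ g₂) = st j₂ R₂ ≫ (st j₁ A₂ : Over.mk (bcj j₁ A₂) ⟶ Over.mk j₁) from rfl]
      abel
    have hf0 : Units.map (Polynomial.aeval (0 : R₂) : Polynomial A₂ →ₐ[A₂] R₂).toMonoidHom f = 1 := by
      refine Units.ext ?_
      have h1 := congrArg (MvPolynomial.aeval ![(0 : A₂), 0]) hf
      rw [map_mul, map_one, show MvPolynomial.aeval ![(0 : A₂), 0]
          (MvPolynomial.map (algebraMap A₁ A₂) (v : MvPolynomial (Fin 2) A₁)) = 1 from by
        rw [show (![(0 : A₂), 0]) = fun _ => (0 : A₂) from by funext i; fin_cases i <;> rfl]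
        simp [← MvPolynomial.constantCoeff_eq] at hc0 ⊢
        simp [hc0], _root_.mul_one] at h1
      simp only [GaExt.dlt, map_mul, GaExt.at0, GaExt.at1, GaExt.at01, ← Polynomial.aeval_algHom_apply, map_add,
        MvPolynomial.aeval_X, Matrix.cons_val_zero, Matrix.cons_val_one, add_zero] at h1
      rw [_root_.mul_assoc, ← map_mul (Polynomial.aeval (0 : A₂)), Units.mul_inv, map_one, _root_.mul_one] at h1
      show Polynomial.aeval (0 : R₂) (f : Polynomial A₂) = 1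
      have h2 := congrArg (algebraMap A₂ R₂) h1
      rw [← Polynomial.aeval_algebraMap_apply, map_zero, map_one] at h2
      exact h2
    let φ : MvPolynomial (Fin 2) A₁ →+* R₂ := MvPolynomial.map (algebraMap A₁ A₂)
    have hkey : Er x₁ (st j₂ R₂ ≫ g₂) (gaQ j₂ (MvPolynomial.X 0)) (gaQ j₂ (MvPolynomial.X 1)) =
        emQ em j₂ (Units.map φ.toMonoidHom v) := by
      let h' : QA j₂ R₂ ⟶ Over.mk j₁ := st j₂ R₂ ≫ g₂
      let ψ : MvPolynomial (Fin 2) A₁ →+* Γ((QA j₂ R₂).left, ⊤) := (fn j₂ R₂).symm.toRingHom.comp φ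
      let k : QA j₂ R₂ ⟶ QA j₁ (MvPolynomial (Fin 2) A₁) := toQR h' ψ (RingHom.ext fun a => by
        show (fn j₂ R₂).symm (MvPolynomial.map (algebraMap A₁ A₂) (MvPolynomial.C a)) = _
        rw [MvPolynomial.map_C]
        refine (app_st (j := j₂) (𝟙 (QA j₂ R₂)) (algebraMap A₁ A₂ a)).trans ?_
        rw [Category.id_comp]
        exact congr($(Scheme.ΓSpecIso_inv_naturality_assoc (CommRingCat.ofHom (algebraMap A₁ A₂))
          (st j₂ R₂).left.appTop) a).trans rfl)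
      have hk : ∀ i, k ≫ gaQ j₁ (MvPolynomial.X i) = gaQ j₂ (MvPolynomial.X i : R₂) := fun i => RedPts.ga_injective (by
        rw [gaFn_comp_gaQR, app_toQR]
        show (fn j₂ R₂).symm (φ (MvPolynomial.X i)) = _
        rw [MvPolynomial.map_X, gaQ, RedPts.gaFn_gaPt])
      rw [← hk 0, ← hk 1, show (st j₂ R₂ ≫ g₂) = k ≫ st j₁ (MvPolynomial (Fin 2) A₁) from (toQR_st h' ψ _).symm,
        ← rr_Er, ← hv]
      refine (rr_emb em k _).trans (congrArg (emb em _) (Units.ext ?_))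
      exact app_toQR h' ψ _ _
    have hu : Units.map (Polynomial.aeval (MvPolynomial.X 0) : Polynomial A₂ →ₐ[A₂] R₂).toMonoidHom f *
        Units.map (Polynomial.aeval (MvPolynomial.X 1) : Polynomial A₂ →ₐ[A₂] R₂).toMonoidHom f *
        Units.map φ.toMonoidHom v =
        Units.map (Polynomial.aeval (MvPolynomial.X 0 + MvPolynomial.X 1) :
          Polynomial A₂ →ₐ[A₂] R₂).toMonoidHom f := Units.ext (by
      have e := GaExt.at01_mul_inv f
      simp only [GaExt.dlt, GaExt.at0, GaExt.at1, GaExt.at01] at hf e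
      show Polynomial.aeval (MvPolynomial.X 0 : R₂) (f : Polynomial A₂) *
        Polynomial.aeval (MvPolynomial.X 1 : R₂) (f : Polynomial A₂) * φ (v : MvPolynomial (Fin 2) A₁) =
        Polynomial.aeval (MvPolynomial.X 0 + MvPolynomial.X 1 : R₂) (f : Polynomial A₂)
      linear_combination Polynomial.aeval (MvPolynomial.X 0 + MvPolynomial.X 1 : R₂) (f : Polynomial A₂) * hf -
        (Polynomial.aeval (MvPolynomial.X 0 : R₂) (f : Polynomial A₂) *
          Polynomial.aeval (MvPolynomial.X 1 : R₂) (f : Polynomial A₂) * φ (v : MvPolynomial (Fin 2) A₁)) * e)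
    have h3 := congrArg (emQ em j₂) hu
    rw [emQ_mul, emQ_mul, ← hkey] at h3
    simp only [Er] at h3 ⊢
    rw [← gaQ_mul, hF', hF', hF', hf0, emQ_one]
    rw [← gaQ_mul] at h3
    rw [← h3]
    abel
  have hadd : ∀ {Z : Over S} (h : Z ⟶ Over.mk j₂) (q q' : Z ⟶ Red.Ga S), Lr x₂ h (q * q') = Lr x₂ h q + Lr x₂ h q' := by
    intro Z h q q'
    let ψ : MvPolynomial (Fin 2) A₂ →+* Γ(Z.left, ⊤) := MvPolynomial.eval₂Hom (strR h) ![Red.gaFn q, Red.gaFn q']
    let k : Z ⟶ QA j₂ (MvPolynomial (Fin 2) A₂) := toQR h ψ (RingHom.ext fun a => MvPolynomial.eval₂_C _ _ a)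
    have hq : k ≫ gaQ j₂ (MvPolynomial.X 0) = q := RedPts.ga_injective (by
      rw [gaFn_comp_gaQR, app_toQR]; exact MvPolynomial.eval₂_X _ _ _)
    have hq' : k ≫ gaQ j₂ (MvPolynomial.X 1) = q' := RedPts.ga_injective (by
      rw [gaFn_comp_gaQR, app_toQR]; exact MvPolynomial.eval₂_X _ _ _)
    have h1 := congrArg (rr I k) hzero
    rw [rr_Er, map_zero, hq, hq', toQR_st] at h1
    exact (sub_eq_zero.1 h1).symm
  obtain ⟨hfl₁, hfp₁, hsu₁⟩ := cover_props (A' := A₁) j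
  obtain ⟨hfl₂, hfp₂, hsu₂⟩ := cover_props (A' := A₂) j₁
  refine ⟨Over.mk j₂, g₂ ≫ g₁, fun {Z} h q => Lr x₂ h q, ⟨?_, ?_, ?_⟩, fun k h q => rr_Lr x₂ k h q, hadd, hπ₂⟩
  · exact inferInstanceAs (Flat ((st j₁ A₂).left ≫ (st j A₁).left))
  · exact inferInstanceAs (LocallyOfFinitePresentation ((st j₁ A₂).left ≫ (st j A₁).left))
  · exact inferInstanceAs (Surjective ((st j₁ A₂).left ≫ (st j A₁).left))

/-- The first Ext sheaf of the additive group by the multiplicative group vanishes in characteristic `p`. -/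
theorem isZero_extSh_one_Ga (S : Scheme.{u}) (p : ℕ) [Fact p.Prime] (hp : (p : Γ(S, ⊤)) = 0) :
    IsZero ((HomSh.extSh (QuotSh.J Scheme.fppfPrecoverage S) (CGrpSh2.Ga Scheme.fppfPrecoverage S) 1).obj
      (CGrpSh2.Gm Scheme.fppfPrecoverage S)) := by
  let em := Injective.ι (CGrpSh2.Gm Kf S)
  let π := cokernel.π em
  have hS : (ShortComplex.mk em π (cokernel.condition em)).ShortExact := { exact := ShortComplex.exact_cokernel _ }
  refine isZero_extSh_one (QuotSh.J Kf S) (CGrpSh2.Ga Kf S) hS fun T φ => ?_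
  -- the morphism as a natural family
  let Φ : ∀ {Z : Over S}, (Z ⟶ T) → (Z ⟶ Red.Ga S) → BigSite.sect Kf (cokernel em) Z := fun {Z} h q =>
    φ.hom.app (op (Over.mk h)) (pE q)
  have hΦn : ∀ {Z Z' : Over S} (k : Z' ⟶ Z) (h : Z ⟶ T) (q : Z ⟶ Red.Ga S),
      rr (cokernel em) k (Φ h q) = Φ (k ≫ h) (k ≫ q) := fun k h q =>
    (NatTrans.naturality_apply φ.hom (Over.homMk k : Over.mk (k ≫ h) ⟶ Over.mk h).op (pE q)).symm
  have hΦa : ∀ {Z : Over S} (h : Z ⟶ T) (q q' : Z ⟶ Red.Ga S), Φ h (q * q') = Φ h q + Φ h q' := fun h q q' => by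
    exact map_add (φ.hom.app (op (Over.mk h))).hom (pE q) (pE q')
  let P : Over S → Prop := fun _ => True
  have hloc : ∀ x : T.left, ∃ (W : Over S) (g : W ⟶ T)
      (L : ∀ {Z : Over S}, (Z ⟶ W) → (Z ⟶ Red.Ga S) → BigSite.sect Kf (Injective.under (CGrpSh2.Gm Kf S)) Z),
      Flat g.left ∧ LocallyOfFinitePresentation g.left ∧ x ∈ Set.range g.left ∧
      (∀ {Z Z' : Over S} (k : Z' ⟶ Z) (h : Z ⟶ W) (q : Z ⟶ Red.Ga S), rr _ k (L h q) = L (k ≫ h) (k ≫ q)) ∧
      (∀ {Z : Over S} (h : Z ⟶ W) (q q' : Z ⟶ Red.Ga S), L h (q * q') = L h q + L h q') ∧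
      ∀ {Z : Over S} (h : Z ⟶ W) (q : Z ⟶ Red.Ga S), sap π Z (L h q) = Φ (h ≫ g) q := by
    intro x
    obtain ⟨V, hV, hxV, -⟩ := exists_isAffineOpen_mem_and_subset (show x ∈ (⊤ : T.left.Opens) from trivial)
    obtain ⟨y, hy⟩ : x ∈ Set.range hV.fromSpec := by rw [hV.range_fromSpec]; exact hxV
    haveI : Nontrivial Γ(T.left, V) := by
      haveI : Nonempty V := ⟨⟨x, hxV⟩⟩
      infer_instance
    haveI : CharP Γ(T.left, V) p := ringChar.of_eq (CharP.ringChar_of_prime_eq_zero Fact.out (by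
      have h1 := congrArg (fun z => T.left.presheaf.map (homOfLE (le_top : V ≤ ⊤)).op (T.hom.appTop z)) hp
      simpa using h1))
    let j : Spec Γ(T.left, V) ⟶ S := hV.fromSpec ≫ T.hom
    let c : Over.mk j ⟶ T := Over.homMk hV.fromSpec rfl
    obtain ⟨W, g, L, ⟨hfl, hfp, hsu⟩, hn, ha, hπ⟩ := exists_ext_hom hS p (A := Γ(T.left, V)) j
      (fun h q => Φ (h ≫ c) q) (fun k h q => by rw [hΦn, Category.assoc]) (fun h q q' => hΦa _ q q')
    refine ⟨W, g ≫ c, L, inferInstanceAs (Flat (g.left ≫ hV.fromSpec)),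
      inferInstanceAs (LocallyOfFinitePresentation (g.left ≫ hV.fromSpec)), ?_, hn, ha, fun h q => ?_⟩
    · obtain ⟨z, rfl⟩ := hsu.surj y
      exact ⟨z, (Scheme.Hom.comp_apply _ _ _).trans hy⟩
    · rw [hπ, Category.assoc]
  choose W g L hfl hfp hmem hn ha hπ using hloc
  refine ⟨Sieve.ofArrows W g, ?_, ?_⟩
  · rw [GrothendieckTopology.mem_over_iff]
    change Sieve.overEquiv T (Sieve.ofArrows W g) ∈ Precoverage.toGrothendieck _ T.left
    rw [Sieve.overEquiv_ofArrows]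
    refine Precoverage.generate_mem_toGrothendieck ?_
    change _ ∈ Scheme.precoverage _ _
    rw [Scheme.ofArrows_mem_precoverage_iff]
    exact ⟨fun x => ⟨x, hmem x⟩, fun x => ⟨hfl x, hfp x⟩⟩
  · rintro W' g' hg'
    obtain ⟨V, a, b, ⟨x⟩, rfl⟩ := hg'
    let ψ : (CGrpSh2.Ga Kf S).over W' ⟶ (Injective.under (CGrpSh2.Gm Kf S)).over W' := ⟨{
      app := fun Y => AddCommGrpCat.ofHom (AddMonoidHom.mk'
        (fun z => L x (Y.unop.hom ≫ a) (show Y.unop.left ⟶ Red.Ga S from Additive.toMul (ULift.down z)))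
        (fun z z' => ha x _ _ _))
      naturality := fun Y Y' k => AddCommGrpCat.ext fun z => by
        refine (Eq.trans ?_ (hn x k.unop.left (Y.unop.hom ≫ a) _).symm)
        show L x (Y'.unop.hom ≫ a) _ = L x (k.unop.left ≫ Y.unop.hom ≫ a) _
        rw [← Category.assoc, Over.w k.unop]
        rfl }⟩
    refine ⟨ψ, Sheaf.hom_ext (NatTrans.ext (funext fun Y => AddCommGrpCat.ext fun z => ?_))⟩
    show sap π _ (L x (Y.unop.hom ≫ a) _) = φ.hom.app (op (Over.mk (Y.unop.hom ≫ a ≫ g x))) z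
    rw [hπ, Category.assoc]
    rfl

end Groth.Agent.GaLoc87
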